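import Cfsg.Agent.SLRegGen.TransvClosure

/-!
Upper unitriangular matrices with a non-zero super-diagonal, and the embedding of `SL k` as the block
of a split subspace.
-/

set_option autoImplicit false

namespace CfsgLib.SLRegGen

open Matrix

variable {F : Type*} [Field F]

section chain

variable {n : ℕ} {N : Matrix (Fin n) (Fin n) F}

lemma pow_apply_eq_zero (hlo : ∀ i j : Fin n, j.val ≤ i.val → N i j = 0) :
    ∀ (k : ℕ) (i j : Fin n), j.val < i.val + k → (N ^ k) i j = 0 := by
  intro k
  induction k with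
  | zero =>
    intro i j h
    rw [pow_zero, Matrix.one_apply_ne]
    intro e
    subst e
    omega
  | succ k ih =>
    intro i j h
    rw [pow_succ, Matrix.mul_apply]
    refine Finset.sum_eq_zero fun l _ => ?_
    by_cases hl : l.val < i.val + k
    · rw [ih i l hl, zero_mul]
    · rw [hlo l j (by omega), mul_zero]

lemma pow_apply_ne_zero (hlo : ∀ i j : Fin n, j.val ≤ i.val → N i j = 0) {m : ℕ}
    (hup : ∀ i j : Fin n, i.val + 1 = j.val → j.val < m → N i j ≠ 0) :
    ∀ (k : ℕ) (i j : Fin n), i.val + k = j.val → j.val < m → (N ^ k) i j ≠ 0 := by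
  intro k
  induction k with
  | zero =>
    intro i j h _
    obtain rfl : i = j := Fin.ext (by omega)
    simp
  | succ k ih =>
    intro i j h hj
    have hl : i.val + k < n := by omega
    rw [pow_succ, Matrix.mul_apply, Finset.sum_eq_single (⟨i.val + k, hl⟩ : Fin n)]
    · exact mul_ne_zero (ih i _ rfl (by simp; omega)) (hup _ j (by simp; omega) hj)
    · intro l _ hne
      by_cases hl' : l.val < i.val + k
      · rw [pow_apply_eq_zero hlo k i l hl', zero_mul]
      · rw [hlo l j (by
          have : l.val ≠ i.val + k := fun e => hne (Fin.ext e)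
          omega), mul_zero]
    · simp

/-- Regular unipotence of a unitriangular matrix with non-zero super-diagonal. -/
theorem regular_of_unitriangular {n : ℕ} (hn : 1 ≤ n) {U : Matrix (Fin n) (Fin n) F}
    (hlo : ∀ i j : Fin n, j.val ≤ i.val → (U - 1) i j = 0)
    (hup : ∀ i j : Fin n, i.val + 1 = j.val → (U - 1) i j ≠ 0) :
    IsNilpotent (U - 1) ∧ (U - 1) ^ (n - 1) ≠ 0 := by
  refine ⟨⟨n, ?_⟩, fun h => ?_⟩
  · ext i j
    rw [Matrix.zero_apply]
    exact pow_apply_eq_zero hlo n i j (by omega)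
  · have h1 := pow_apply_ne_zero hlo (m := n) (fun i j e _ => hup i j e) (n - 1) ⟨0, hn⟩ ⟨n - 1, by omega⟩
      (by simp) (by simp; omega)
    rw [h, Matrix.zero_apply] at h1
    exact h1 rfl

/-- Regular unipotence is not affected by renumbering. -/
theorem regular_of_reindex {n : ℕ} (σ : Fin n ≃ Fin n) {U : Matrix (Fin n) (Fin n) F}
    (h : IsNilpotent (U.submatrix σ σ - 1) ∧ (U.submatrix σ σ - 1) ^ (n - 1) ≠ 0) :
    IsNilpotent (U - 1) ∧ (U - 1) ^ (n - 1) ≠ 0 := by
  let R : Matrix (Fin n) (Fin n) F ≃ₐ[F] Matrix (Fin n) (Fin n) F := Matrix.reindexAlgEquiv F F σ.symm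
  have e : R (U - 1) = U.submatrix σ σ - 1 := by
    rw [map_sub, map_one]
    simp [R, Matrix.reindex_apply]
  constructor
  · obtain ⟨k, hk⟩ := h.1
    refine ⟨k, R.injective ?_⟩
    rw [map_pow, e, hk, map_zero]
  · intro h0
    apply h.2
    rw [← e, ← map_pow, h0, map_zero]

end chain

section block

variable {ι : Type} [Fintype ι] [DecidableEq ι] {k : ℕ}

lemma det_block (P : Matrix ι (Fin k) F) (D : Matrix (Fin k) ι F) (h : D * P = 1)
    (A : Matrix (Fin k) (Fin k) F) : (1 + P * (A - 1) * D).det = A.det := by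
  rw [Matrix.mul_assoc, Matrix.det_one_add_mul_comm, Matrix.mul_assoc, h, Matrix.mul_one, add_sub_cancel]

lemma block_mul (P : Matrix ι (Fin k) F) (D : Matrix (Fin k) ι F) (h : D * P = 1)
    (A B : Matrix (Fin k) (Fin k) F) :
    1 + P * (A * B - 1) * D = (1 + P * (A - 1) * D) * (1 + P * (B - 1) * D) := by
  have e : P * (A - 1) * D * (P * (B - 1) * D) = P * ((A - 1) * (B - 1)) * D := by
    simp only [Matrix.mul_assoc]
    rw [← Matrix.mul_assoc D P, h, Matrix.one_mul]
  rw [Matrix.mul_add, Matrix.add_mul, Matrix.add_mul, Matrix.one_mul, Matrix.one_mul, Matrix.mul_one, e,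
    show A * B - 1 = (A - 1) + (B - 1) + (A - 1) * (B - 1) by noncomm_ring]
  simp only [Matrix.mul_add, Matrix.add_mul]
  abel

/-- The special linear group of a block, `P` giving the basis and `D` the dual functionals. -/
def blockHom (P : Matrix ι (Fin k) F) (D : Matrix (Fin k) ι F) (h : D * P = 1) :
    Matrix.SpecialLinearGroup (Fin k) F →* Matrix.SpecialLinearGroup ι F where
  toFun A := ⟨1 + P * ((A : Matrix (Fin k) (Fin k) F) - 1) * D, by rw [det_block P D h, A.2]⟩
  map_one' := Subtype.ext (by simp)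
  map_mul' A B := Subtype.ext (block_mul P D h A B)

lemma blockHom_coe (P : Matrix ι (Fin k) F) (D : Matrix (Fin k) ι F) (h : D * P = 1)
    (A : Matrix.SpecialLinearGroup (Fin k) F) :
    (blockHom P D h A : Matrix ι ι F) = 1 + P * ((A : Matrix (Fin k) (Fin k) F) - 1) * D := rfl

lemma mul_vecMulVec_mul (P : Matrix ι (Fin k) F) (D : Matrix (Fin k) ι F) (c φ : Fin k → F) :
    P * vecMulVec c φ * D = vecMulVec (P *ᵥ c) (φ ᵥ* D) := by
  rw [Matrix.mul_vecMulVec, Matrix.vecMulVec_mul]

lemma TR.of_block (P : Matrix ι (Fin k) F) (D : Matrix (Fin k) ι F) (h : D * P = 1)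
    {H : Subgroup (Matrix.SpecialLinearGroup ι F)} {c φ : Fin k → F}
    (hT : TR (H.comap (blockHom P D h)) c φ) : TR H (P *ᵥ c) (φ ᵥ* D) := by
  refine TR.of_coe ?_ hT.2 ?_
  · rw [← dotProduct_mulVec, mulVec_mulVec, h, one_mulVec, hT.1]
  · rw [blockHom_coe, CfsgLib.RootSubgroups.SLTransv.coe_tv hT.1, add_sub_cancel_left, mul_vecMulVec_mul]

end block

end CfsgLib.SLRegGen
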