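import Cfsg.Agent.SLRegGen.TransvClosure
import Cfsg.Agent.SLRegGen.Three
import Cfsg.Agent.SLRegGen.Chain
import Cfsg.Agent.S0801

/-!
`SL 4 F` in odd characteristic: `u = 1 + N` and a conjugate `v` with `(u⁻¹ v) ^ 2` a transvection.
-/

set_option autoImplicit false

namespace CfsgLib.SLRegGen

open Matrix CfsgLib.RootSubgroups CfsgLib.RootSubgroups.SLTransv

variable {F : Type*} [Field F]

/-- Conjugation by `diag(1, b)`. -/
noncomputable def scaleHom (b : F) (hb : b ≠ 0) :
    Matrix.SpecialLinearGroup (Fin 2) F →* Matrix.SpecialLinearGroup (Fin 2) F where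
  toFun M := ⟨!![M.1 0 0, M.1 0 1 / b; M.1 1 0 * b, M.1 1 1], by
    have h := M.2
    rw [Matrix.det_fin_two] at h
    rw [Matrix.det_fin_two_of]
    field_simp
    linear_combination h⟩
  map_one' := Subtype.ext (by simp [Matrix.one_fin_two])
  map_mul' M N := Subtype.ext (by
    show _ = _ * _
    ext i j
    fin_cases i <;> fin_cases j <;>
      simp [Matrix.mul_apply, Fin.sum_univ_two] <;> field_simp)

lemma scaleHom_coe (b : F) (hb : b ≠ 0) (M : Matrix.SpecialLinearGroup (Fin 2) F) :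
    (scaleHom b hb M : Matrix (Fin 2) (Fin 2) F) =
      !![M.1 0 0, M.1 0 1 / b; M.1 1 0 * b, M.1 1 1] := rfl

lemma scaleHom_up (b : F) (hb : b ≠ 0) (t : F) : scaleHom b hb (SLTwo.up (t * b)) = SLTwo.up t := by
  refine Subtype.ext ?_
  rw [scaleHom_coe, SLTwo.coe_up, SLTwo.coe_up]
  simp [mul_div_cancel_right₀ _ hb]

lemma scaleHom_low (b : F) (hb : b ≠ 0) : scaleHom b hb (SLTwo.low 1) = SLTwo.low b := by
  refine Subtype.ext ?_
  rw [scaleHom_coe, SLTwo.coe_low, SLTwo.coe_low]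
  simp

/-- Dickson: two transvections generate the root groups of their plane. -/
lemma TR.line_full [Fintype F] {ι : Type} [Fintype ι] [DecidableEq ι] (h2 : (2 : F) ≠ 0)
    {H : Subgroup (Matrix.SpecialLinearGroup ι F)} {c φ d ψ : ι → F} (hA : TR H c φ) (hB : TR H d ψ)
    (hα : φ ⬝ᵥ d ≠ 0) (hβ : ψ ⬝ᵥ c ≠ 0)
    (hgen : Subfield.closure ({(φ ⬝ᵥ d) * (ψ ⬝ᵥ c)} : Set F) = ⊤)
    (hno : ¬ (Fintype.card F = 9 ∧ ((φ ⬝ᵥ d) * (ψ ⬝ᵥ c)) ^ 2 = -1)) (k : F) : TR H c (k • φ) := by
  obtain ⟨Φ, -, hup, hlow⟩ := exists_sl2_hom hA.1 hB.1 hα hβ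
  set a := φ ⬝ᵥ d with ha
  set b := ψ ⬝ᵥ c with hb
  let K := (H.comap Φ).comap (scaleHom b hβ)
  have htop : K = ⊤ := by
    rcases Cfsg.Agent.S0801.result h2 (a * b) (mul_ne_zero hα hβ) hgen with ⟨h, -⟩ | ⟨h9, hsq, -⟩
    · rw [eq_top_iff, ← h, Subgroup.closure_le]
      rintro g (hg | hg)
      · show Φ (scaleHom b hβ g) ∈ H
        rw [show g = SLTwo.low 1 from Subtype.ext hg, scaleHom_low, hlow, div_self hβ, one_smul]
        exact hB.2
      · show Φ (scaleHom b hβ g) ∈ H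
        rw [show g = SLTwo.up (a * b) from Subtype.ext hg, scaleHom_up, hup, div_self hα, one_smul]
        exact hA.2
    · exact absurd ⟨h9, hsq⟩ hno
  have h1 : SLTwo.up (k * a * b) ∈ K := by rw [htop]; trivial
  have h1' : Φ (scaleHom b hβ (SLTwo.up (k * a * b))) ∈ H := h1
  rw [scaleHom_up, hup, mul_div_cancel_right₀ _ hα] at h1'
  exact ⟨smul_dot hA.1 k, h1'⟩

/-- The offset vector. -/
def fourH (e : F) : Fin 4 → F := ![0, 2, 2 * e + 4, 2 * e]

/-- The conjugating element. -/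
noncomputable def fourG (e : F) : Matrix.SpecialLinearGroup (Fin 4) F := tv (fourH e) ![1, 0, 0, 0]

lemma fourH_dot (e : F) : (![1, 0, 0, 0] : Fin 4 → F) ⬝ᵥ fourH e = 0 := by
  simp [fourH, dotProduct, Fin.sum_univ_four]

lemma fourG_coe (e : F) : ((fourG e : Matrix.SpecialLinearGroup (Fin 4) F) : Matrix (Fin 4) (Fin 4) F) =
    !![1, 0, 0, 0; 2, 1, 0, 0; 2 * e + 4, 0, 1, 0; 2 * e, 0, 0, 1] := by
  rw [fourG, coe_tv (fourH_dot e)]
  ext i j
  fin_cases i <;> fin_cases j <;> simp [fourH, vecMulVec_apply]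

lemma fourG_inv_coe (e : F) :
    (((fourG e)⁻¹ : Matrix.SpecialLinearGroup (Fin 4) F) : Matrix (Fin 4) (Fin 4) F) =
    !![1, 0, 0, 0; -2, 1, 0, 0; -(2 * e + 4), 0, 1, 0; -(2 * e), 0, 0, 1] := by
  rw [fourG, tv_inv (fourH_dot e), coe_tv (by rw [neg_dotProduct, fourH_dot, neg_zero])]
  ext i j
  fin_cases i <;> fin_cases j <;> simp [fourH, vecMulVec_apply]

/-- The regular unipotent `1 + N` of size four. -/
def upFour (F : Type*) [Field F] : Matrix.SpecialLinearGroup (Fin 4) F := up F 3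

lemma upFour_coe : ((upFour F : Matrix.SpecialLinearGroup (Fin 4) F) : Matrix (Fin 4) (Fin 4) F) =
    !![1, 1, 0, 0; 0, 1, 1, 0; 0, 0, 1, 1; 0, 0, 0, 1] := by
  show upMat F 3 = _
  ext i j
  fin_cases i <;> fin_cases j <;> simp [upMat_apply]

lemma upFour_inv_coe :
    (((upFour F)⁻¹ : Matrix.SpecialLinearGroup (Fin 4) F) : Matrix (Fin 4) (Fin 4) F) =
    !![1, -1, 1, -1; 0, 1, -1, 1; 0, 0, 1, -1; 0, 0, 0, 1] := by
  have e : (upFour F)⁻¹ = (⟨!![1, -1, 1, -1; 0, 1, -1, 1; 0, 0, 1, -1; 0, 0, 0, 1], by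
      rw [Matrix.det_of_isUpperTriangular]
      · simp [Fin.prod_univ_four]
      · intro i j hij
        have : j.val < i.val := hij
        fin_cases i <;> fin_cases j <;> first | rfl | (simp at this)⟩ :
      Matrix.SpecialLinearGroup (Fin 4) F) := by
    refine inv_eq_of_mul_eq_one_right (Subtype.ext ?_)
    show ((upFour F : Matrix.SpecialLinearGroup (Fin 4) F) : Matrix (Fin 4) (Fin 4) F) * _ =
      (1 : Matrix (Fin 4) (Fin 4) F)
    rw [upFour_coe]
    ext i j
    fin_cases i <;> fin_cases j <;> simp [Matrix.mul_apply, Fin.sum_univ_four]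
  rw [e]

/-- The conjugate of `upFour`. -/
noncomputable def vFour (e : F) : Matrix.SpecialLinearGroup (Fin 4) F :=
  fourG e * upFour F * (fourG e)⁻¹

lemma vFour_inv_coe (e : F) :
    (((vFour e)⁻¹ : Matrix.SpecialLinearGroup (Fin 4) F) : Matrix (Fin 4) (Fin 4) F) =
    !![-1, -1, 1, -1; 0, -1, 1, -1; -8 + -2*e, -4 + -2*e, 5 + 2*e, -5 + -2*e;
      -4*e, -2*e, 2*e, 1 + -2*e] := by
  rw [show (vFour e)⁻¹ = fourG e * (upFour F)⁻¹ * (fourG e)⁻¹ by rw [vFour]; group,
    Matrix.SpecialLinearGroup.coe_mul, Matrix.SpecialLinearGroup.coe_mul, upFour_inv_coe, fourG_coe,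
    fourG_inv_coe]
  ext i j
  fin_cases i <;> fin_cases j <;> simp [Matrix.mul_apply, Fin.sum_univ_four] <;> ring

lemma upFour_inv_mul_vFour (e : F) :
    (((upFour F)⁻¹ * vFour e : Matrix.SpecialLinearGroup (Fin 4) F) : Matrix (Fin 4) (Fin 4) F) =
    !![-1, 2, 0, 0; 0, -1, 0, 0; -8 + -2*e, 4, 1, 0; -4*e, 2*e, 0, 1] := by
  have hA : ((upFour F)⁻¹ * fourG e : Matrix.SpecialLinearGroup (Fin 4) F).1 =
      !![3, -1, 1, -1; -2, 1, -1, 1; 4, 0, 1, -1; 2*e, 0, 0, 1] := by
    rw [Matrix.SpecialLinearGroup.coe_mul, upFour_inv_coe, fourG_coe]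
    ext i j
    fin_cases i <;> fin_cases j <;> simp [Matrix.mul_apply, Fin.sum_univ_four] <;> ring
  have hB : (upFour F * (fourG e)⁻¹ : Matrix.SpecialLinearGroup (Fin 4) F).1 =
      !![-1, 1, 0, 0; -6 + -2*e, 1, 1, 0; -4 + -4*e, 0, 1, 1; -2*e, 0, 0, 1] := by
    rw [Matrix.SpecialLinearGroup.coe_mul, upFour_coe, fourG_inv_coe]
    ext i j
    fin_cases i <;> fin_cases j <;> simp [Matrix.mul_apply, Fin.sum_univ_four] <;> ring
  rw [show (upFour F)⁻¹ * vFour e = ((upFour F)⁻¹ * fourG e) * (upFour F * (fourG e)⁻¹) by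
    rw [vFour]; group, Matrix.SpecialLinearGroup.coe_mul, hA, hB]
  ext i j
  fin_cases i <;> fin_cases j <;> simp [Matrix.mul_apply, Fin.sum_univ_four] <;> ring

lemma upFour_inv_mul_vFour_sq (e : F) :
    ((((upFour F)⁻¹ * vFour e) * ((upFour F)⁻¹ * vFour e) : Matrix.SpecialLinearGroup (Fin 4) F) :
        Matrix (Fin 4) (Fin 4) F) =
      1 + vecMulVec ![2, 0, 2 * e + 8, 4 * e] ((-2 : F) • ![0, 1, 0, 0]) := by
  rw [Matrix.SpecialLinearGroup.coe_mul, upFour_inv_mul_vFour]
  ext i j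
  fin_cases i <;> fin_cases j <;>
    simp [Matrix.mul_apply, Fin.sum_univ_four, vecMulVec_apply] <;> ring

set_option maxHeartbeats 2000000 in
/-- The generation theorem for `n = 4`. -/
theorem four_gen [Fintype F] (h2 : (2 : F) ≠ 0) {e : F} (he0 : e ≠ 0) (he4 : e ≠ 4) (he4' : e ≠ -4)
    (he2 : e ≠ -2) (hgen : Subfield.closure ({16 * (e ^ 2 - 16)} : Set F) = ⊤)
    (hno : ¬ (Fintype.card F = 9 ∧ (16 * (e ^ 2 - 16)) ^ 2 = -1)) :
    Subgroup.closure ({upFour F, vFour e} : Set (Matrix.SpecialLinearGroup (Fin 4) F)) = ⊤ := by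
  set H := Subgroup.closure ({upFour F, vFour e} :
    Set (Matrix.SpecialLinearGroup (Fin 4) F)) with hH
  set u := upFour F with hu'
  set v := vFour e with hv'
  have hu : u ∈ H := Subgroup.subset_closure (Set.mem_insert _ _)
  have hv : v ∈ H := Subgroup.subset_closure (Set.mem_insert_of_mem _ rfl)
  set p : F := 2 * e + 8 with hp
  set q : F := 4 * e with hq
  have hp0 : p ≠ 0 := fun h => he4' (mul_left_cancel₀ h2 (by linear_combination h))
  have hqp : q - p ≠ 0 := fun h => he4 (mul_left_cancel₀ h2 (by linear_combination h))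
  have h8 : (8 : F) ≠ 0 := by
    rw [show (8 : F) = 2 ^ 3 by norm_num]; exact pow_ne_zero _ h2
  have h2pq : 2 * p + q ≠ 0 := fun h => he2 (mul_left_cancel₀ h8 (by linear_combination h))
  have hq0 : q ≠ 0 := mul_ne_zero (by rw [show (4 : F) = 2 ^ 2 by norm_num]; exact pow_ne_zero _ h2) he0
  set f : Fin 4 → F := ![0, 1, 0, 0] with hf
  set C : Fin 4 → F := ![2, 0, p, q] with hC
  -- the square of `u⁻¹ v`
  have hT : TR H C ((-2 : F) • f) :=
    TR.of_coe (by simp [hC, hf, dotProduct, Fin.sum_univ_four]) (g := (u⁻¹ * v) * (u⁻¹ * v))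
      (H.mul_mem (H.mul_mem (H.inv_mem hu) hv) (H.mul_mem (H.inv_mem hu) hv))
      (upFour_inv_mul_vFour_sq e)
  have hvi : ((v⁻¹ : Matrix.SpecialLinearGroup (Fin 4) F) : Matrix (Fin 4) (Fin 4) F) =
      !![-1, -1, 1, -1; 0, -1, 1, -1; -8 + -2*e, -4 + -2*e, 5 + 2*e, -5 + -2*e;
        -4*e, -2*e, 2*e, 1 + -2*e] := vFour_inv_coe e
  set uC : Fin 4 → F := ![2, p, p + q, q] with huC
  have huC' : (u : Matrix (Fin 4) (Fin 4) F) *ᵥ C = uC := by
    rw [hu', upFour_coe, hC, huC]
    ext i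
    fin_cases i <;> simp [Matrix.mulVec, dotProduct, Fin.sum_univ_four]
  set φ1 : Fin 4 → F := ![0, 1, -1, 1] with hφ1
  have hφ1u : φ1 ᵥ* (u : Matrix (Fin 4) (Fin 4) F) = f := by
    rw [hu', upFour_coe, hφ1, hf]
    ext i
    fin_cases i <;> simp [Matrix.vecMul, dotProduct, Fin.sum_univ_four]
  have hTu : TR H uC ((-2 : F) • φ1) :=
    huC' ▸ hT.conj' hu (ψ := (-2 : F) • φ1) (by rw [smul_vecMul, hφ1u])
  have hprod : (((-2 : F) • f) ⬝ᵥ uC) * (((-2 : F) • φ1) ⬝ᵥ C) = 16 * (e ^ 2 - 16) := by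
    simp [hf, huC, hφ1, hC, hp, hq, dotProduct, Fin.sum_univ_four]
    ring
  have hline : ∀ k : F, TR H C (k • f) := by
    intro k
    have h := TR.line_full h2 hT hTu (by
        simp [hf, huC, dotProduct, Fin.sum_univ_four, h2, hp0])
      (by
        simp [hφ1, hC, dotProduct, Fin.sum_univ_four]
        exact fun h => hqp (mul_left_cancel₀ h2 (by linear_combination -h)))
      (by rw [hprod]; exact hgen) (by rw [hprod]; exact hno) (-k / 2)
    rwa [smul_smul, show -k / 2 * -2 = k by field_simp] at h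
  have hlineU : ∀ k : F, TR H uC (k • φ1) := fun k =>
    huC' ▸ (hline k).conj' hu (ψ := k • φ1) (by rw [smul_vecMul, hφ1u])
  set C' : Fin 4 → F := ![2 * (p + q), -p ^ 2, p ^ 2, q * (p + q)] with hC'
  set φ' : Fin 4 → F :=
    ![0, (q - p) * (2 * p + q) + p ^ 2, -p ^ 2, p ^ 2] with hφ'
  have h1 : ∀ k : F, TR H C' (k • φ') := by
    intro k
    set x : F := -p / ((2 * p + q) * (q - p)) with hx
    have hx' : x * ((2 * p + q) * (q - p)) = -p := div_mul_cancel₀ _ (mul_ne_zero h2pq hqp)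
    have hg := hlineU x
    have h := (hline (k * (q - p) * (2 * p + q) * (2 * p + q))).conj' hg.2
      (ψ := ((2 * p + q) * k) • φ') (by
        rw [coe_tv hg.1, vecMul_add, vecMul_one, vecMul_vecMulVec]
        ext i
        fin_cases i <;> simp [hφ', huC, hφ1, hf, dotProduct, Fin.sum_univ_four] <;>
          first
          | linear_combination (k * p * (2 * p + q)) * hx'
          | linear_combination -(k * p * (2 * p + q)) * hx')
    have hd : φ' ⬝ᵥ ((tv uC (x • φ1) : Matrix (Fin 4) (Fin 4) F) *ᵥ C) = 0 := by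
      have h0 := h.1
      rw [smul_dotProduct, smul_eq_mul, mul_eq_zero] at h0
      rw [coe_tv hg.1, add_mulVec, one_mulVec, vecMulVec_mulVec]
      simp [hφ', hC, huC, hφ1, dotProduct, Fin.sum_univ_four]
      linear_combination (p * (q - p)) * hx'
    rw [← smul_smul] at h
    have h3 := h.smul_centre (smul_dot hd k)
    convert h3 using 1
    rw [coe_tv hg.1, add_mulVec, one_mulVec, vecMulVec_mulVec]
    ext i
    fin_cases i <;> simp [hC', hC, huC, hφ1, dotProduct, Fin.sum_univ_four] <;>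
      first
      | linear_combination -(2 : F) * hx'
      | linear_combination -p * hx'
      | linear_combination -(p + q) * hx'
      | linear_combination -q * hx'
  set f12 : Fin 4 → F := ![0, 1, 1, 0] with hf12
  have h2' : ∀ k : F, TR H C' (k • f12) := by
    intro k
    have hB : TR H (((u⁻¹ : Matrix.SpecialLinearGroup (Fin 4) F) : Matrix (Fin 4) (Fin 4) F) *ᵥ C)
        ((k / q ^ 3) • f12) := by
      refine (hline (k / q ^ 3)).conj' (H.inv_mem hu) ?_
      rw [smul_vecMul, hu', upFour_inv_coe]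
      ext i
      fin_cases i <;> simp [hf12, hf, Matrix.vecMul, dotProduct, Fin.sum_univ_four]
    have h := (h1 1).comm hB (by simp [hf12, hC', dotProduct, Fin.sum_univ_four])
    convert h using 1
    rw [one_smul, hu', upFour_inv_coe, smul_smul]
    congr 1
    simp [hφ', hC, Matrix.mulVec, dotProduct, Fin.sum_univ_four]
    field_simp
    ring
  set s : F := -2 * (2 * p + q) / p ^ 2 with hs
  set ψ' : Fin 4 → F := ![-p, 3 + s * p, 1, 0] with hψ'
  have h3' : ∀ k : F, TR H C' (k • ψ') := by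
    intro k
    have hE : ∀ r : F, TR H (((v⁻¹ : Matrix.SpecialLinearGroup (Fin 4) F) : Matrix (Fin 4) (Fin 4) F) *ᵥ C)
        (r • ![-p, 3, 1, 0]) := by
      intro r
      refine (hline r).conj' (H.inv_mem hv) ?_
      rw [smul_vecMul, hvi]
      congr 1
      ext i
      fin_cases i <;> simp [hf, hp, Matrix.vecMul, dotProduct, Matrix.mul_apply, Fin.sum_univ_four] <;> ring
    set r : F := -(k * p / (p - 8) ^ 3) with hr
    have hg := hline s
    have hB := (hE r).conj' hg.2 (ψ := r • ψ') (by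
      rw [smul_vecMul, coe_tv hg.1, vecMul_add, vecMul_one, vecMul_vecMulVec]
      congr 1
      ext i
      fin_cases i <;> simp [hψ', hC, hf, dotProduct, Fin.sum_univ_four] <;> ring)
    have h := (h2' 1).comm hB (by
      rw [smul_dotProduct]
      simp [hψ', hC', hs, dotProduct, Fin.sum_univ_four]
      right
      field_simp
      ring)
    have hp8 : p - 8 ≠ 0 := by rw [hp, add_sub_cancel_right]; exact mul_ne_zero h2 he0
    convert h using 1
    rw [one_smul, coe_tv hg.1, add_mulVec, one_mulVec, vecMulVec_mulVec, hvi, smul_smul]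
    congr 1
    simp [hf12, hf, hC, hs, hr, Matrix.mulVec, dotProduct, Matrix.mul_apply, Fin.sum_univ_four]
    field_simp
    simp only [hp, hq]
    ring
  have hfull : FullCentre H C' := by
    intro φ hφ
    set a := φ 3 / p ^ 2 with ha
    set c := -φ 0 / p with hc
    set b := φ 1 - a * ((q - p) * (2 * p + q) + p ^ 2) - c * (3 + s * p) with hb
    have hsum : φ = a • φ' + b • f12 + c • ψ' := by
      simp only [hC', dotProduct, Fin.sum_univ_four] at hφ
      simp at hφ
      ext i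
      fin_cases i
      · simp [hφ', hf12, hψ', hc]
        field_simp
      · simp [hφ', hf12, hψ', hb]
        ring
      · simp [hφ', hf12, hψ']
        refine mul_left_cancel₀ (pow_ne_zero 2 hp0) ?_
        simp only [hb, ha, hc, hs]
        field_simp
        linear_combination hφ
      · simp [hφ', hf12, hψ', ha]
        field_simp
    rw [hsum]
    exact ((h1 a).add (h2' b)).add (h3' c)
  let V : Submodule F (Fin 4 → F) :=
    { carrier := {c | FullCentre H c}
      zero_mem' := by simpa using hfull.smul (0 : F)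
      add_mem' := FullCentre.add
      smul_mem' := fun k _ h => h.smul k }
  have hUV : ∀ c ∈ V, (u : Matrix (Fin 4) (Fin 4) F) *ᵥ c ∈ V := fun c hc => FullCentre.map hc hu
  have hN : ∀ c ∈ V, ![c 1, c 2, c 3, 0] ∈ V := by
    intro c hc
    have h := V.sub_mem (hUV c hc) hc
    convert h using 1
    rw [hu', upFour_coe]
    ext i
    fin_cases i <;> simp [Matrix.mulVec, dotProduct, Fin.sum_univ_four]
  have hC'V : C' ∈ V := hfull
  have he0V : (![1, 0, 0, 0] : Fin 4 → F) ∈ V := by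
    by_cases h3 : q * (p + q) = 0
    · have h5 := hN _ (hN _ hC'V)
      simp [hC', h3] at h5
      have h6 := V.smul_mem (p ^ 2)⁻¹ h5
      simpa [hp0] using h6
    · have h5 := hN _ (hN _ (hN _ hC'V))
      simp [hC'] at h5
      have h6 := V.smul_mem (q * (p + q))⁻¹ h5
      convert h6 using 1
      ext i
      fin_cases i
      · show (1 : F) = (q * (p + q))⁻¹ * (q * (p + q))
        exact (inv_mul_cancel₀ h3).symm
      all_goals simp
  have hz : ∃ z ∈ V, z 3 ≠ 0 := by
    refine ⟨_, FullCentre.map he0V hv, ?_⟩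
    rw [hv', vFour, Matrix.SpecialLinearGroup.coe_mul, Matrix.SpecialLinearGroup.coe_mul, upFour_coe,
      fourG_coe, fourG_inv_coe]
    simp [Matrix.mulVec, dotProduct, Matrix.mul_apply, Fin.sum_univ_four]
    exact ⟨⟨h2, he0⟩, h2⟩
  obtain ⟨z, hzV, hz3⟩ := hz
  have hall : ∀ y : Fin 4 → F, y ∈ V := by
    intro y
    have a1 := hN z hzV
    have a2 := hN _ a1
    have a3 := hN _ a2
    simp at a2 a3
    set k3 := y 3 / z 3
    set k2 := (y 2 - k3 * z 2) / z 3
    set k1 := (y 1 - k3 * z 1 - k2 * z 2) / z 3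
    set k0 := (y 0 - k3 * z 0 - k2 * z 1 - k1 * z 2) / z 3
    have h := V.add_mem (V.add_mem (V.add_mem (V.smul_mem k3 hzV) (V.smul_mem k2 a1)) (V.smul_mem k1 a2))
      (V.smul_mem k0 a3)
    convert h using 1
    ext i
    fin_cases i <;> simp [k0, k1, k2, k3, vecHead, vecTail] <;> field_simp <;> ring
  refine CfsgLib.Classical.Linear.eq_top_of_transvection_mem fun i j hij a => ?_
  rw [transvection_eq_tv]
  exact ((hall (Pi.single i (1 : F))) _ (by simp [hij.symm])).2

end CfsgLib.SLRegGen
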