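import Mathlib
import Cfsg.Agent.Classical.SLCycleGen

/-!
Two conjugate regular unipotent elements generating `SL 4` over the fields with two and three elements.
-/

set_option autoImplicit false

namespace CfsgLib.SLRegGen

open Matrix CfsgLib.SLTransvGen

/-- `1 + N` modulo 2. -/
def u2 : Matrix.SpecialLinearGroup (Fin 4) (ZMod 2) :=
  ⟨!![1, 1, 0, 0; 0, 1, 1, 0; 0, 0, 1, 1; 0, 0, 0, 1], by decide +kernel⟩

/-- The conjugator modulo 2. -/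
def g2 : Matrix.SpecialLinearGroup (Fin 4) (ZMod 2) :=
  ⟨!![0, 0, 0, 1; 0, 1, 0, 0; 0, 1, 1, 0; 1, 1, 0, 0], by decide +kernel⟩

/-- The conjugate of `u2`. -/
def v2 : Matrix.SpecialLinearGroup (Fin 4) (ZMod 2) :=
  ⟨!![1, 0, 0, 0; 0, 0, 1, 0; 1, 1, 0, 0; 0, 0, 1, 1], by decide +kernel⟩

lemma g2_conj : g2 * u2 * g2⁻¹ = v2 := by
  rw [mul_inv_eq_iff_eq_mul]
  apply Subtype.ext
  decide +kernel

lemma root_pow_2 : ∀ (h : (0 : Fin 4) ≠ 1) (t : ZMod 2),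
    (tv h t : Matrix (Fin 4) (Fin 4) (ZMod 2)) = ↑(tv h (1 : ZMod 2) ^ t.val) := by
  decide +kernel

lemma four_gen_2 :
    Subgroup.closure ({u2, g2 * u2 * g2⁻¹} : Set (Matrix.SpecialLinearGroup (Fin 4) (ZMod 2))) = ⊤ := by
  rw [g2_conj]
  set S := Subgroup.closure ({u2, v2} : Set (Matrix.SpecialLinearGroup (Fin 4) (ZMod 2)))
  have hu : u2 ∈ S := Subgroup.subset_closure (Set.mem_insert _ _)
  have hv : v2 ∈ S := Subgroup.subset_closure (Set.mem_insert_of_mem _ rfl)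
  refine CfsgLib.SLCycleGen.eq_top_of_root_and_cycle (n := 3) (by norm_num) S
    (v2 * v2 * u2 * v2 * v2) ?_ (S.mul_mem (S.mul_mem (S.mul_mem (S.mul_mem hv hv) hu) hv) hv) fun hne t => ?_
  · decide +kernel
  · have h1 : tv hne (1 : ZMod 2) ∈ S := by
      rw [show tv hne (1 : ZMod 2) = v2 * u2⁻¹ * v2 * u2 * u2 * v2 * v2 by apply Subtype.ext; decide +kernel +revert]
      exact (S.mul_mem (S.mul_mem (S.mul_mem (S.mul_mem (S.mul_mem (S.mul_mem hv (S.inv_mem hu)) hv) hu) hu) hv) hv)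
    rw [show tv hne t = tv hne (1 : ZMod 2) ^ t.val from Subtype.ext (root_pow_2 hne t)]
    exact S.pow_mem h1 _

/-- `1 + N` modulo 3. -/
def u3 : Matrix.SpecialLinearGroup (Fin 4) (ZMod 3) :=
  ⟨!![1, 1, 0, 0; 0, 1, 1, 0; 0, 0, 1, 1; 0, 0, 0, 1], by decide +kernel⟩

/-- The conjugator modulo 3. -/
def g3 : Matrix.SpecialLinearGroup (Fin 4) (ZMod 3) :=
  ⟨!![1, 0, 2, 0; 0, 1, 0, 0; 0, 0, 1, 0; 1, 0, 1, 1], by decide +kernel⟩

/-- The conjugate of `u3`. -/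
def v3 : Matrix.SpecialLinearGroup (Fin 4) (ZMod 3) :=
  ⟨!![2, 1, 2, 2; 0, 1, 1, 0; 2, 0, 2, 1; 2, 1, 1, 2], by decide +kernel⟩

lemma g3_conj : g3 * u3 * g3⁻¹ = v3 := by
  rw [mul_inv_eq_iff_eq_mul]
  apply Subtype.ext
  decide +kernel

lemma root_pow_3 : ∀ (h : (0 : Fin 4) ≠ 1) (t : ZMod 3),
    (tv h t : Matrix (Fin 4) (Fin 4) (ZMod 3)) = ↑(tv h (1 : ZMod 3) ^ t.val) := by
  decide +kernel

lemma four_gen_3 :
    Subgroup.closure ({u3, g3 * u3 * g3⁻¹} : Set (Matrix.SpecialLinearGroup (Fin 4) (ZMod 3))) = ⊤ := by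
  rw [g3_conj]
  set S := Subgroup.closure ({u3, v3} : Set (Matrix.SpecialLinearGroup (Fin 4) (ZMod 3)))
  have hu : u3 ∈ S := Subgroup.subset_closure (Set.mem_insert _ _)
  have hv : v3 ∈ S := Subgroup.subset_closure (Set.mem_insert_of_mem _ rfl)
  refine CfsgLib.SLCycleGen.eq_top_of_root_and_cycle (n := 3) (by norm_num) S
    (v3⁻¹ * v3⁻¹ * u3 * v3⁻¹ * u3⁻¹ * v3 * u3⁻¹ * v3 * u3 * v3 * u3⁻¹ * u3⁻¹ * u3⁻¹) ?_ (S.mul_mem (S.mul_mem (S.mul_mem (S.mul_mem (S.mul_mem (S.mul_mem (S.mul_mem (S.mul_mem (S.mul_mem (S.mul_mem (S.mul_mem (S.mul_mem (S.inv_mem hv) (S.inv_mem hv)) hu) (S.inv_mem hv)) (S.inv_mem hu)) hv) (S.inv_mem hu)) hv) hu) hv) (S.inv_mem hu)) (S.inv_mem hu)) (S.inv_mem hu)) fun hne t => ?_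
  · decide +kernel
  · have h1 : tv hne (1 : ZMod 3) ∈ S := by
      rw [show tv hne (1 : ZMod 3) = v3⁻¹ * u3 * v3⁻¹ * v3⁻¹ * v3⁻¹ * u3⁻¹ * v3 by apply Subtype.ext; decide +kernel +revert]
      exact (S.mul_mem (S.mul_mem (S.mul_mem (S.mul_mem (S.mul_mem (S.mul_mem (S.inv_mem hv) hu) (S.inv_mem hv)) (S.inv_mem hv)) (S.inv_mem hv)) (S.inv_mem hu)) hv)
    rw [show tv hne t = tv hne (1 : ZMod 3) ^ t.val from Subtype.ext (root_pow_3 hne t)]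
    exact S.pow_mem h1 _

end CfsgLib.SLRegGen
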