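import Cfsg.Agent.SLRegGen.TwoCases
import Cfsg.Agent.SLRegGen.Four
import Cfsg.Agent.SLRegGen.FourSmall

/-!
Two regular unipotent elements generating `SL n F`, conjugate for prime fields.
-/

set_option autoImplicit false

namespace CfsgLib.SLRegGen

open Matrix

variable {F : Type*} [Field F]

/-- A regular unipotent matrix. -/
def IsReg {n : ℕ} (U : Matrix (Fin n) (Fin n) F) : Prop :=
  IsNilpotent (U - 1) ∧ (U - 1) ^ (n - 1) ≠ 0

/-- Two regular unipotent generators. -/
def TwoGen (n : ℕ) (F : Type*) [Field F] : Prop :=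
  ∃ u v : Matrix.SpecialLinearGroup (Fin n) F, IsReg (u : Matrix (Fin n) (Fin n) F) ∧
    IsReg (v : Matrix (Fin n) (Fin n) F) ∧
    Subgroup.closure ({u, v} : Set (Matrix.SpecialLinearGroup (Fin n) F)) = ⊤

/-- Two conjugate regular unipotent generators. -/
def TwoConjGen (n : ℕ) (F : Type*) [Field F] : Prop :=
  ∃ u g : Matrix.SpecialLinearGroup (Fin n) F, IsReg (u : Matrix (Fin n) (Fin n) F) ∧
    Subgroup.closure ({u, g * u * g⁻¹} : Set (Matrix.SpecialLinearGroup (Fin n) F)) = ⊤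

lemma IsReg.conj {n : ℕ} {u : Matrix.SpecialLinearGroup (Fin n) F}
    (h : IsReg (u : Matrix (Fin n) (Fin n) F)) (g : Matrix.SpecialLinearGroup (Fin n) F) :
    IsReg ((g * u * g⁻¹ : Matrix.SpecialLinearGroup (Fin n) F) : Matrix (Fin n) (Fin n) F) := by
  set G := (g : Matrix (Fin n) (Fin n) F)
  set G' := ((g⁻¹ : Matrix.SpecialLinearGroup (Fin n) F) : Matrix (Fin n) (Fin n) F)
  have h1 : G * G' = 1 := by
    rw [← Matrix.SpecialLinearGroup.coe_mul, mul_inv_cancel, Matrix.SpecialLinearGroup.coe_one]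
  have h2 : G' * G = 1 := by
    rw [← Matrix.SpecialLinearGroup.coe_mul, inv_mul_cancel, Matrix.SpecialLinearGroup.coe_one]
  let w : (Matrix (Fin n) (Fin n) F)ˣ := ⟨G, G', h1, h2⟩
  have e : ((g * u * g⁻¹ : Matrix.SpecialLinearGroup (Fin n) F) : Matrix (Fin n) (Fin n) F) - 1 =
      (w : Matrix (Fin n) (Fin n) F) * ((u : Matrix (Fin n) (Fin n) F) - 1) * (↑w⁻¹ : Matrix (Fin n) (Fin n) F) := by
    show _ = G * _ * G'
    rw [Matrix.SpecialLinearGroup.coe_mul, Matrix.SpecialLinearGroup.coe_mul, Matrix.mul_sub, Matrix.sub_mul,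
      Matrix.mul_one, h1]
  unfold IsReg
  rw [e]
  constructor
  · obtain ⟨k, hk⟩ := h.1
    exact ⟨k, by rw [Units.conj_pow, hk, mul_zero, zero_mul]⟩
  · intro h0
    rw [Units.conj_pow] at h0
    exact h.2 ((Units.mul_right_eq_zero w).1 ((Units.mul_left_eq_zero w⁻¹).1 h0))

lemma TwoConjGen.twoGen {n : ℕ} (h : TwoConjGen n F) : TwoGen n F := by
  obtain ⟨u, g, hu, h⟩ := h
  exact ⟨u, _, hu, hu.conj g, h⟩

lemma upFour_regular : IsReg ((upFour F : Matrix.SpecialLinearGroup (Fin 4) F) : Matrix (Fin 4) (Fin 4) F) := by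
  refine regular_of_unitriangular (by norm_num) (fun i j h => ?_) fun i j h => ?_
  · rw [upFour_coe]
    fin_cases i <;> fin_cases j <;> simp at h ⊢
  · rw [upFour_coe]
    fin_cases i <;> fin_cases j <;> simp at h ⊢

lemma four_small [Fintype F] {p : ℕ} [Fact p.Prime] (hp : Fintype.card F = p)
    (U G : Matrix.SpecialLinearGroup (Fin 4) (ZMod p))
    (hU : (U : Matrix (Fin 4) (Fin 4) (ZMod p)) = !![1, 1, 0, 0; 0, 1, 1, 0; 0, 0, 1, 1; 0, 0, 0, 1])
    (h : Subgroup.closure ({U, G * U * G⁻¹} : Set (Matrix.SpecialLinearGroup (Fin 4) (ZMod p))) = ⊤) :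
    TwoConjGen 4 F := by
  let e := ZMod.ringEquivOfPrime F Fact.out hp
  let φ : Matrix.SpecialLinearGroup (Fin 4) (ZMod p) →* Matrix.SpecialLinearGroup (Fin 4) F :=
    Matrix.SpecialLinearGroup.map e.toRingHom
  have hφ : Function.Surjective φ := fun M => ⟨Matrix.SpecialLinearGroup.map e.symm.toRingHom M,
    Subtype.ext (by ext i j; simp [φ])⟩
  have hU' : φ U = upFour F := Subtype.ext (by
    rw [upFour_coe]
    ext i j
    simp only [φ, Matrix.SpecialLinearGroup.map_apply_coe, RingHom.mapMatrix_apply, Matrix.map_apply, hU]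
    fin_cases i <;> fin_cases j <;> simp)
  refine ⟨φ U, φ G, hU' ▸ upFour_regular, ?_⟩
  rw [← map_inv, ← map_mul, ← map_mul, ← Set.image_pair, ← MonoidHom.map_closure, h,
    Subgroup.map_top_of_surjective φ hφ]

variable [Fintype F]

lemma card_of_prime (hp : (Fintype.card F).Prime) {r : ℕ} (hr : r.Prime) (h : (r : F) = 0) :
    Fintype.card F = r := by
  have h' : ((Fintype.card F : ℕ) : F) = 0 := FiniteField.cast_card_eq_zero F
  by_contra hne
  obtain ⟨a, b, hab⟩ : ∃ a b : ℤ, a * (Fintype.card F : ℤ) + b * (r : ℤ) = 1 := by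
    obtain ⟨a, b, h⟩ := (Int.isCoprime_iff_nat_coprime.2 ((Nat.coprime_primes hp hr).2 hne) :
      IsCoprime (Fintype.card F : ℤ) (r : ℤ))
    exact ⟨a, b, h⟩
  have := congrArg (fun z : ℤ => (z : F)) hab
  simp [h, h'] at this

theorem twoConjGen_four (hp : (Fintype.card F).Prime) : TwoConjGen 4 F := by
  by_cases h2 : (2 : F) = 0
  · exact four_small (p := 2) (card_of_prime hp Nat.prime_two (by exact_mod_cast h2)) u2 g2 rfl four_gen_2
  by_cases h3 : (3 : F) = 0
  · exact four_small (p := 3) (card_of_prime hp Nat.prime_three (by exact_mod_cast h3)) u3 g3 rfl four_gen_3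
  refine ⟨upFour F, fourG (2 : F), upFour_regular, four_gen h2 h2 ?_ ?_ ?_ ?_ ?_⟩
  · exact fun h => h2 (by linear_combination -h)
  · exact fun h => mul_ne_zero h2 h3 (by linear_combination h)
  · exact fun h => mul_ne_zero h2 h2 (by linear_combination h)
  · rw [eq_top_iff]
    intro x _
    have h1 := subring_eq_top_of_prime hp (Subfield.closure ({16 * ((2 : F) ^ 2 - 16)} : Set F)).toSubring
    have : x ∈ (Subfield.closure ({16 * ((2 : F) ^ 2 - 16)} : Set F)).toSubring := by rw [h1]; trivial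
    exact this
  · rintro ⟨h9, -⟩
    rw [h9] at hp
    norm_num at hp

lemma card_prime_of_bot (hbot : (⊥ : Subring F) = ⊤) : (Fintype.card F).Prime := by
  obtain ⟨n, hpr, hn⟩ := FiniteField.card F (ringChar F)
  haveI := Fact.mk hpr
  have hsurj : Function.Surjective (ZMod.castHom (dvd_refl (ringChar F)) F) := fun x => by
    obtain ⟨w, rfl⟩ := Subring.mem_bot.1 (show x ∈ (⊥ : Subring F) by rw [hbot]; trivial)
    exact ⟨(w : ZMod (ringChar F)), by simp⟩
  have h1 : Fintype.card F ≤ ringChar F := by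
    simpa using Fintype.card_le_of_surjective _ hsurj
  have h2 : Fintype.card F = ringChar F :=
    le_antisymm h1 (hn ▸ Nat.le_self_pow n.pos.ne' _)
  rwa [h2]

lemma exists_generator : ∃ θ : F, θ ≠ 0 ∧ (∀ K : Subring F, θ ∈ K → K = ⊤) ∧
    (∀ x : F, x ≠ 0 → ∃ k : ℕ, θ ^ k = x) ∧ ∀ k : ℕ, θ ^ k = 1 → Fintype.card F - 1 ∣ k := by
  classical
  obtain ⟨g, hg⟩ := IsCyclic.exists_generator (α := Fˣ)
  have hpow : ∀ c : F, c ≠ 0 → ∃ k : ℕ, (g : F) ^ k = c := by
    intro c hc
    obtain ⟨k, hk⟩ := (mem_powers_iff_mem_zpowers.2 (hg (Units.mk0 c hc)) :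
      Units.mk0 c hc ∈ Submonoid.powers g)
    exact ⟨k, by simpa using congrArg Units.val hk⟩
  refine ⟨(g : F), g.ne_zero, fun K hK => ?_, hpow, fun k hk => ?_⟩
  · rw [eq_top_iff]
    intro c _
    by_cases hc : c = 0
    · subst hc; exact K.zero_mem
    obtain ⟨k, rfl⟩ := hpow c hc
    exact K.pow_mem hK k
  · rw [← Fintype.card_units, ← Nat.card_eq_fintype_card, ← orderOf_eq_card_of_forall_mem_zpowers hg]
    exact orderOf_dvd_of_pow_eq_one (Units.ext (by simpa using hk))

theorem twoGen_four (hp : ¬ (Fintype.card F).Prime) : TwoGen 4 F := by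
  obtain ⟨θ, hθ, hgen, hpow, hord⟩ := exists_generator (F := F)
  have hint : ∀ z : ℤ, θ ≠ (z : F) := by
    intro z hz
    exact hp (card_prime_of_bot (hgen ⊥ (Subring.mem_bot.2 ⟨z, hz.symm⟩)))
  by_cases h2 : (2 : F) = 0
  · have hθ1 : θ + 1 ≠ 0 := fun h => hint (-1) (by push_cast; linear_combination h)
    set κ : F := ((θ + 1) ^ 2)⁻¹ with hκ
    have hκ0 : κ ≠ 0 := inv_ne_zero (pow_ne_zero _ hθ1)
    set b : F := (θ * κ)⁻¹ with hb
    refine ⟨genU le_rfl κ 0, genV le_rfl κ 0 b, genU_regular le_rfl κ 0 (Or.inl rfl),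
      genV_regular le_rfl κ 0 (inv_ne_zero (mul_ne_zero hθ hκ0)) (Or.inl rfl), ?_⟩
    refine two_gen_even le_rfl h2 hθ (Or.inl rfl) hκ0 ?_ (inv_mul_cancel₀ (mul_ne_zero hθ hκ0)) hgen
    have h1 : κ * (θ + 1) ^ 2 = 1 := inv_mul_cancel₀ (pow_ne_zero _ hθ1)
    rw [sVal]
    linear_combination -h1 + θ * κ * h2
  · refine ⟨upFour F, vFour θ, upFour_regular, upFour_regular.conj _, four_gen h2 hθ ?_ ?_ ?_ ?_ ?_⟩
    · simpa using hint 4
    · simpa using hint (-4)
    · simpa using hint (-2)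
    · set K := Subfield.closure ({16 * (θ ^ 2 - 16)} : Set F) with hK
      have hmem : 16 * (θ ^ 2 - 16) ∈ K := Subfield.subset_closure rfl
      have h16 : (16 : F) ≠ 0 := by rw [show (16 : F) = 2 ^ 4 by norm_num]; exact pow_ne_zero _ h2
      have hsq : θ ^ 2 ∈ K := by
        have := K.add_mem (K.div_mem hmem (natCast_mem K 16)) (natCast_mem K 16)
        push_cast at this
        rwa [mul_div_cancel_left₀ _ h16, sub_add_cancel] at this
      have hsq' : ∀ x : F, x ^ 2 ∈ K := by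
        intro x
        by_cases hx : x = 0
        · rw [hx, zero_pow two_ne_zero]; exact K.zero_mem
        obtain ⟨k, rfl⟩ := hpow x hx
        rw [← pow_mul, mul_comm, pow_mul]
        exact K.pow_mem hsq k
      rw [eq_top_iff]
      intro x _
      have h4 : (4 : F) ≠ 0 := by rw [show (4 : F) = 2 ^ 2 by norm_num]; exact pow_ne_zero _ h2
      have := K.div_mem (K.sub_mem (hsq' (x + 1)) (hsq' (x - 1))) (natCast_mem K 4)
      push_cast at this
      rwa [show ((x + 1) ^ 2 - (x - 1) ^ 2) / 4 = x by field_simp; ring] at this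
    · rintro ⟨h9, h⟩
      have h3 : (3 : F) = 0 := by
        have h' := FiniteField.cast_card_eq_zero F
        rw [h9] at h'
        push_cast at h'
        exact mul_self_eq_zero.1 (by linear_combination h')
      have h8 : θ ^ 8 = 1 := by
        have := FiniteField.pow_card_sub_one_eq_one θ hθ
        rwa [h9] at this
      have h4 : θ ^ 4 = -1 := by
        have h4' : θ ^ 4 ≠ 1 := fun h4 => by
          have := Nat.le_of_dvd (by norm_num) (hord 4 h4)
          omega
        have : (θ ^ 4 - 1) * (θ ^ 4 + 1) = 0 := by linear_combination h8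
        rcases mul_eq_zero.1 this with h' | h'
        · exact absurd (sub_eq_zero.1 h') h4'
        · linear_combination h'
      have hs : θ ^ 2 = -1 := by linear_combination h - 256 * h4 + (2731 * θ ^ 2 - 21760) * h3
      have : θ ^ 4 = 1 := by linear_combination (θ ^ 2 - 1) * hs
      exact h2 (by linear_combination this.symm.trans h4)

theorem twoConjGen_large {m : ℕ} (hm : 4 ≤ m) (hp : (Fintype.card F).Prime) : TwoConjGen (m + 1) F := by
  by_cases h2 : (2 : F) = 0
  · obtain ⟨g, hg⟩ := genV_eq_conj hm (1 : F) 1 (b := 1)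
      (by rw [show (-1 : F) = 1 by linear_combination -h2, one_pow, one_mul])
    refine ⟨genU (by omega) 1 1, g, genU_regular (by omega) 1 1 (Or.inr hm), ?_⟩
    rw [hg]
    refine two_gen_even (by omega) h2 one_ne_zero (Or.inr hm) one_ne_zero ?_ (by ring)
      fun K _ => subring_eq_top_of_prime hp K
    rw [sVal, show (-1 : F) = 1 by linear_combination -h2, one_pow]
    linear_combination -h2
  · have hs : ((-1 : F) ^ m) * (-1) ^ m = 1 := by rw [← mul_pow, neg_mul_neg, one_mul, one_pow]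
    set κ : F := 2 * (-1) ^ m with hκ
    have hκ0 : κ ≠ 0 := mul_ne_zero h2 (pow_ne_zero _ (neg_ne_zero.2 one_ne_zero))
    obtain ⟨g, hg⟩ := genV_eq_conj hm κ (2 * κ + (-1) ^ m) (b := 2 / κ)
      (by rw [hκ]; field_simp)
    refine ⟨genU (by omega) κ (2 * κ + (-1) ^ m), g, genU_regular (by omega) _ _ (Or.inr hm), ?_⟩
    rw [hg]
    exact two_gen_odd hm h2 hκ0 fun K _ => subring_eq_top_of_prime hp K

theorem twoGen_large {m : ℕ} (hm : 4 ≤ m) (hp : ¬ (Fintype.card F).Prime) : TwoGen (m + 1) F := by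
  obtain ⟨θ, hθ, hgen, -, -⟩ := exists_generator (F := F)
  by_cases h2 : (2 : F) = 0
  · have hθ1 : θ + 1 ≠ 0 := fun h => by
      have e : θ = ((-1 : ℤ) : F) := by push_cast; linear_combination h
      apply hp
      exact card_prime_of_bot (hgen ⊥ (Subring.mem_bot.2 ⟨-1, e.symm⟩))
    set κ : F := ((θ + 1) ^ 2)⁻¹ with hκ
    have hκ0 : κ ≠ 0 := inv_ne_zero (pow_ne_zero _ hθ1)
    refine ⟨genU (by omega) κ 0, genV (by omega) κ 0 (θ * κ)⁻¹, genU_regular (by omega) κ 0 (Or.inl rfl),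
      genV_regular (by omega) κ 0 (inv_ne_zero (mul_ne_zero hθ hκ0)) (Or.inl rfl), ?_⟩
    refine two_gen_even (by omega) h2 hθ (Or.inl rfl) hκ0 ?_ (inv_mul_cancel₀ (mul_ne_zero hθ hκ0)) hgen
    have h1 : κ * (θ + 1) ^ 2 = 1 := inv_mul_cancel₀ (pow_ne_zero _ hθ1)
    have hs : (-1 : F) ^ m = 1 := by rw [show (-1 : F) = 1 by linear_combination -h2, one_pow]
    rw [sVal, hs]
    linear_combination -h1 + (θ * κ - 1) * h2
  · exact ⟨_, _, genU_regular (by omega) θ _ (Or.inr hm),
      genV_regular (by omega) θ _ (div_ne_zero h2 hθ) (Or.inr hm), two_gen_odd hm h2 hθ hgen⟩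

theorem two_regular_unipotent {n : ℕ} (hn : 4 ≤ n) :
    TwoGen n F ∧ ((Fintype.card F).Prime → TwoConjGen n F) := by
  obtain ⟨m, rfl⟩ : ∃ m, n = m + 1 := ⟨n - 1, by omega⟩
  by_cases hm : m = 3
  · subst hm
    refine ⟨?_, twoConjGen_four⟩
    by_cases hp : (Fintype.card F).Prime
    · exact (twoConjGen_four hp).twoGen
    · exact twoGen_four hp
  · refine ⟨?_, twoConjGen_large (by omega)⟩
    by_cases hp : (Fintype.card F).Prime
    · exact (twoConjGen_large (by omega) hp).twoGen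
    · exact twoGen_large (by omega) hp

end CfsgLib.SLRegGen
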