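import Cfsg.Agent.SLRegGen.TransvClosure

/-!
The subgroup of `SL 3 F` generated by two special unipotent elements contains an elementary
transvection at position `(0, 2)`.
-/

set_option autoImplicit false

namespace CfsgLib.SLRegGen

open Matrix CfsgLib.RootSubgroups.SLTransv

variable {F : Type*} [Field F]

/-- The first generator on the three-dimensional block. -/
def blockW (α : F) : Matrix.SpecialLinearGroup (Fin 3) F :=
  ⟨!![1, 0, α; -1, 1, 0; 0, 0, 1], by rw [Matrix.det_fin_three]; simp⟩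

/-- The second generator on the three-dimensional block. -/
def blockX (β : F) : Matrix.SpecialLinearGroup (Fin 3) F :=
  ⟨!![1, β, 0; 0, 1, 0; -1, -β, 1], by rw [Matrix.det_fin_three]; simp⟩

@[simp] lemma blockW_coe (α : F) :
    ((blockW α : Matrix.SpecialLinearGroup (Fin 3) F) : Matrix (Fin 3) (Fin 3) F) =
      !![1, 0, α; -1, 1, 0; 0, 0, 1] := rfl

@[simp] lemma blockX_coe (β : F) :
    ((blockX β : Matrix.SpecialLinearGroup (Fin 3) F) : Matrix (Fin 3) (Fin 3) F) =
      !![1, β, 0; 0, 1, 0; -1, -β, 1] := rfl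

lemma one_add_single_three (c : F) : (1 : Matrix (Fin 3) (Fin 3) F) + vecMulVec ![1, 0, 0] ![0, 0, c] =
    !![1, 0, c; 0, 1, 0; 0, 0, 1] := by
  ext i j
  fin_cases i <;> fin_cases j <;> simp [vecMulVec_apply]

/-- Characteristic two. -/
theorem block_transvection_two (h2 : (2 : F) = 0) {α β : F} (hαβ : α * β = 1)
    {H : Subgroup (Matrix.SpecialLinearGroup (Fin 3) F)} (hw : blockW α ∈ H) (hx : blockX β ∈ H) :
    TR H ![1, 0, 0] ![0, 0, 1] := by
  obtain ⟨a, ha⟩ : ∃ a, a = blockW α * blockW α := ⟨_, rfl⟩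
  obtain ⟨g, hg⟩ : ∃ g, g = a * (blockX β * blockX β) * a := ⟨_, rfl⟩
  have haH : a ∈ H := by rw [ha]; exact H.mul_mem hw hw
  have hgH : g ∈ H := by rw [hg]; exact H.mul_mem (H.mul_mem haH (H.mul_mem hx hx)) haH
  have hac : (a : Matrix (Fin 3) (Fin 3) F) = !![1, 0, 0; 0, 1, α; 0, 0, 1] := by
    rw [ha, Matrix.SpecialLinearGroup.coe_mul, blockW_coe]
    ext i j
    fin_cases i <;> fin_cases j <;> simp <;> grind
  have hgc : (g : Matrix (Fin 3) (Fin 3) F) = !![1, 0, 0; 0, 0, α; 0, β, 0] := by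
    rw [hg, Matrix.SpecialLinearGroup.coe_mul, Matrix.SpecialLinearGroup.coe_mul,
      Matrix.SpecialLinearGroup.coe_mul, hac, blockX_coe]
    ext i j
    fin_cases i <;> fin_cases j <;> simp <;> grind
  refine TR.of_coe (by simp) (g := (blockX β * g) * (blockX β * g) * (blockX β * a) * blockX β)
    (H.mul_mem (H.mul_mem (H.mul_mem (H.mul_mem hx hgH) (H.mul_mem hx hgH)) (H.mul_mem hx haH)) hx) ?_
  rw [one_add_single_three]
  simp only [Matrix.SpecialLinearGroup.coe_mul, hac, hgc, blockX_coe]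
  ext i j
  fin_cases i <;> fin_cases j <;> simp <;> grind

/-- Characteristic three. -/
theorem block_transvection_three (h3 : (3 : F) = 0)
    {H : Subgroup (Matrix.SpecialLinearGroup (Fin 3) F)} (hw : blockW (2 : F) ∈ H)
    (hx : blockX (2 : F) ∈ H) : TR H ![1, 0, 0] ![0, 0, 1] := by
  set W := blockW (2 : F) with hW
  set X := blockX (2 : F) with hX
  have hm := fun {a b : Matrix.SpecialLinearGroup (Fin 3) F} (ha : a ∈ H) (hb : b ∈ H) => H.mul_mem ha hb
  refine TR.of_coe (by simp) (g := (W * W) * (X * X) * ((W * W) * X) * (W * X) * ((W * W) * X))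
    (hm (hm (hm (hm (hm hw hw) (hm hx hx)) (hm (hm hw hw) hx)) (hm hw hx)) (hm (hm hw hw) hx)) ?_
  rw [one_add_single_three]
  have e1 : ((W * W : Matrix.SpecialLinearGroup (Fin 3) F) : Matrix (Fin 3) (Fin 3) F) =
      !![1, 0, 1; 1, 1, 1; 0, 0, 1] := by
    rw [Matrix.SpecialLinearGroup.coe_mul, hW, blockW_coe]
    ext i j
    fin_cases i <;> fin_cases j <;> simp <;> grind
  have e2 : ((X * X : Matrix.SpecialLinearGroup (Fin 3) F) : Matrix (Fin 3) (Fin 3) F) =
      !![1, 1, 0; 0, 1, 0; 1, 0, 1] := by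
    rw [Matrix.SpecialLinearGroup.coe_mul, hX, blockX_coe]
    ext i j
    fin_cases i <;> fin_cases j <;> simp <;> grind
  simp only [Matrix.SpecialLinearGroup.coe_mul] at e1 e2 ⊢
  rw [e1, e2, hW, hX, blockW_coe, blockX_coe]
  ext i j
  fin_cases i <;> fin_cases j <;> simp <;> grind

/-- Characteristic at least five. -/
theorem block_transvection_odd [Finite F] (h2 : (2 : F) ≠ 0) (h3 : (3 : F) ≠ 0)
    {H : Subgroup (Matrix.SpecialLinearGroup (Fin 3) F)} (hw : blockW (2 : F) ∈ H)
    (hx : blockX (2 : F) ∈ H) : TR H ![1, 0, 0] ![0, 0, -4] := by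
  have ht : TR H ![0, 1, 1] ![(2 : F), 2, -2] := by
    refine TR.of_coe (by simp) (g := (blockW 2 * blockX 2) * (blockW 2 * blockX 2))
      (H.mul_mem (H.mul_mem hw hx) (H.mul_mem hw hx)) ?_
    simp only [Matrix.SpecialLinearGroup.coe_mul, blockW_coe, blockX_coe]
    ext i j
    fin_cases i <;> fin_cases j <;> simp [vecMulVec_apply] <;> ring
  have hWi : (((blockW (2 : F))⁻¹ : Matrix.SpecialLinearGroup (Fin 3) F) : Matrix (Fin 3) (Fin 3) F) =
      !![1, 0, -2; 1, 1, -2; 0, 0, 1] := by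
    have e : (blockW (2 : F))⁻¹ = (⟨!![1, 0, -2; 1, 1, -2; 0, 0, 1], by rw [Matrix.det_fin_three]; simp⟩ : Matrix.SpecialLinearGroup (Fin 3) F) := by
      refine inv_eq_of_mul_eq_one_right (Subtype.ext ?_)
      show !![(1 : F), 0, 2; -1, 1, 0; 0, 0, 1] * !![1, 0, -2; 1, 1, -2; 0, 0, 1] = (1 : Matrix (Fin 3) (Fin 3) F)
      ext i j
      fin_cases i <;> fin_cases j <;> simp
    rw [e]
  -- the commutator of `t` with a conjugate
  have hB : TR H ![-6, -1, 11] ![(4 : F), -2, 2] := by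
    have h := ht.conj' (g := blockX 2 * blockX 2 * (blockW 2)⁻¹)
      (H.mul_mem (H.mul_mem hx hx) (H.inv_mem hw)) (ψ := ![(4 : F), -2, 2]) (by
        simp only [Matrix.SpecialLinearGroup.coe_mul, blockX_coe, hWi]
        ext i
        fin_cases i <;> simp <;> ring)
    convert h using 1
    simp only [Matrix.SpecialLinearGroup.coe_mul, blockX_coe, hWi]
    ext i
    fin_cases i <;> simp <;> ring
  have h01 : TR H ![0, 1, 1] ![(0 : F), 1, -1] := by
    refine TR.of_zsmul (216 : ℤ) ?_ ?_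
    · have e : ((216 : ℤ) : F) = (2 : F) ^ 3 * 3 ^ 3 := by norm_num
      rw [e]
      exact mul_ne_zero (pow_ne_zero _ h2) (pow_ne_zero _ h3)
    · have h := (ht.comm hB (by simp)).add (ht.zsmul 72)
      convert h using 1
      ext i
      fin_cases i <;> simp <;> ring
  have hD : TR H ![-2, -1, 1] ![(0 : F), 2, 2] := by
    have h := ht.conj' (g := (blockW (2 : F))⁻¹) (H.inv_mem hw) (ψ := ![(0 : F), 2, 2]) (by
      rw [hWi]
      ext i
      fin_cases i <;> simp <;> ring)
    convert h using 1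
    rw [hWi]
    ext i
    fin_cases i <;> simp <;> ring
  have hg : TR H ![-2, -1, 1] ![(0 : F), -2⁻¹, -2⁻¹] := by
    refine TR.of_zsmul (-4 : ℤ) ?_ ?_
    · have e : ((-4 : ℤ) : F) = -(2 : F) ^ 2 := by norm_num
      rw [e]
      exact neg_ne_zero.2 (pow_ne_zero _ h2)
    · convert hD using 1
      ext i
      fin_cases i <;> simp <;> field_simp <;> ring
  have hE : TR H ![2, 2, 0] ![(0 : F), 0, -2] := by
    have h := h01.conj' hg.2 (ψ := ![(0 : F), 0, -2]) (by
      rw [coe_tv hg.1, vecMul_add, vecMul_one, vecMul_vecMulVec]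
      ext i
      fin_cases i <;> simp <;> field_simp <;> ring)
    convert h using 1
    rw [coe_tv hg.1, add_mulVec, one_mulVec, vecMulVec_mulVec]
    ext i
    fin_cases i <;> simp <;> field_simp <;> ring
  have hF : TR H ![2, 0, 0] ![(0 : F), 0, -2] := by
    have h := hE.conj' hw (ψ := ![(0 : F), 0, -2]) (by
      rw [blockW_coe]
      ext i
      fin_cases i <;> simp)
    convert h using 1
    rw [blockW_coe]
    ext i
    fin_cases i <;> simp
  refine TR.of_coe (by simp) hF.2 ?_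
  rw [coe_tv hF.1]
  ext i j
  fin_cases i <;> fin_cases j <;> simp [vecMulVec_apply] <;> ring

end CfsgLib.SLRegGen
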