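import Cfsg.Agent.SLRegGen.TwoGenerators
import Cfsg.Agent.SLRegGen.Basic

/-!
The two generators are conjugate to `1 + N`, with control of the determinant of the conjugator.
-/

set_option autoImplicit false

namespace CfsgLib.SLRegGen

open Matrix

variable {F : Type*} [Field F] {l : ℕ}

/-- Super-diagonal products, when all entries are `1` except the first one, `c`. -/
lemma pow_apply_first {N : Matrix (Fin (l + 1)) (Fin (l + 1)) F} {c : F}
    (hlo : ∀ i j : Fin (l + 1), j.val ≤ i.val → N i j = 0)
    (hup : ∀ i j : Fin (l + 1), i.val + 1 = j.val → N i j = if i.val = 0 then c else 1) :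
    ∀ (k : ℕ) (i j : Fin (l + 1)), i.val + k = j.val →
      (N ^ k) i j = if i.val = 0 ∧ 0 < k then c else 1 := by
  intro k
  induction k with
  | zero =>
    intro i j h
    obtain rfl : i = j := Fin.ext (by omega)
    simp
  | succ k ih =>
    intro i j h
    have hl : i.val + k < l + 1 := by omega
    rw [pow_succ, Matrix.mul_apply, Finset.sum_eq_single (⟨i.val + k, hl⟩ : Fin (l + 1))]
    · rw [ih i _ rfl, hup _ j (by simp; omega)]
      by_cases h0 : i.val = 0
      · rw [if_pos (show i.val = 0 ∧ 0 < k + 1 from ⟨h0, k.succ_pos⟩)]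
        by_cases hk : k = 0
        · subst hk
          simp [h0]
        · rw [if_pos ⟨h0, Nat.pos_of_ne_zero hk⟩, if_neg (show ¬ i.val + k = 0 by omega), mul_one]
      · rw [if_neg (by omega), if_neg (show ¬ i.val + k = 0 by omega), if_neg (by omega), one_mul]
    · intro x _ hne
      by_cases hx : x.val < i.val + k
      · rw [pow_apply_eq_zero hlo k i x hx, zero_mul]
      · rw [hlo x j (by
          have : x.val ≠ i.val + k := fun e => hne (Fin.ext e)
          omega), mul_zero]
    · simp

/-- A unitriangular matrix is carried to `1 + N` by a triangular matrix of known determinant. -/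
theorem exists_to_upMat {U : Matrix (Fin (l + 1)) (Fin (l + 1)) F} {c : F} (hl : 1 ≤ l)
    (hlo : ∀ i j : Fin (l + 1), j.val ≤ i.val → (U - 1) i j = 0)
    (hup : ∀ i j : Fin (l + 1), i.val + 1 = j.val → (U - 1) i j = if i.val = 0 then c else 1) :
    ∃ P : Matrix (Fin (l + 1)) (Fin (l + 1)) F, P.det = c ∧ U * P = P * upMat F l := by
  set P : Matrix (Fin (l + 1)) (Fin (l + 1)) F :=
    Matrix.of fun i j => ((U - 1) ^ (l - j.val)) i (Fin.last l) with hP
  refine ⟨P, ?_, ?_⟩
  · rw [Matrix.det_of_upperTriangular]
    · rw [Finset.prod_eq_single (0 : Fin (l + 1))]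
      · rw [hP, Matrix.of_apply, pow_apply_first hlo hup _ _ _ (by simp), if_pos ⟨rfl, by simp; omega⟩]
      · intro b _ hb
        have h0 : b.val ≠ 0 := fun e => hb (Fin.ext e)
        have := b.isLt
        rw [hP, Matrix.of_apply, pow_apply_first hlo hup _ _ _ (by simp; omega), if_neg (by omega)]
      · simp
    · intro i j hij
      have hlt : j.val < i.val := hij
      have := i.isLt
      rw [hP, Matrix.of_apply]
      exact pow_apply_eq_zero hlo _ i _ (by simp; omega)
  · suffices h : (U - 1) * P = P * shiftPow F l 1 by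
      have e : upMat F l = 1 + shiftPow F l 1 := by rw [← upMat_sub_one, add_sub_cancel]
      rw [e, Matrix.mul_add, Matrix.mul_one, ← h, Matrix.sub_mul, Matrix.one_mul, add_sub_cancel]
    ext i j
    have hR : (P * shiftPow F l 1) i j = if h : 0 < j.val then P i ⟨j.val - 1, by omega⟩ else 0 := by
      simp only [Matrix.mul_apply, shiftPow, Matrix.of_apply, mul_ite, mul_one, mul_zero]
      by_cases h : 0 < j.val
      · rw [dif_pos h, Finset.sum_eq_single (⟨j.val - 1, by omega⟩ : Fin (l + 1))]
        · rw [if_pos (by simp; omega)]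
        · intro k _ hk
          rw [if_neg]
          intro e
          exact hk (Fin.ext (by simp; omega))
        · simp
      · rw [dif_neg h]
        exact Finset.sum_eq_zero fun k _ => if_neg (by omega)
    have hL : ((U - 1) * P) i j = ((U - 1) ^ (l - j.val + 1)) i (Fin.last l) := by
      rw [pow_succ', Matrix.mul_apply, Matrix.mul_apply]
      rfl
    rw [hL, hR]
    have := j.isLt
    by_cases h : 0 < j.val
    · rw [dif_pos h, hP, Matrix.of_apply]
      simp only
      rw [show l - (j.val - 1) = l - j.val + 1 by omega]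
    · rw [dif_neg h]
      exact pow_apply_eq_zero hlo _ i _ (by simp; omega)

variable {m : ℕ}

/-- `genU` is conjugate to `1 + N` in `SL`. -/
theorem genU_conj (hm : 4 ≤ m) (κ μ : F) :
    ∃ P : Matrix.SpecialLinearGroup (Fin (m + 1)) F, genU (by omega) κ μ * P = P * up F m := by
  have h3 : 3 ≤ m := by omega
  refine (fun ⟨P, hd, he⟩ => ⟨⟨P, hd⟩, Subtype.ext he⟩) (exists_to_upMat
    (U := (genU h3 κ μ : Matrix (Fin (m + 1)) (Fin (m + 1)) F)) (c := 1) (by omega) (fun i j h => ?_) fun i j h => ?_)
  · rw [genU_coe, add_sub_right_comm, Matrix.add_apply, coreSubOne_lo κ μ h3 i j h, vecMulVec_apply,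
      Pi.single_apply, Pi.single_apply]
    by_cases hp : i = pen m
    · rw [if_pos hp, if_neg (fun e => by
        subst hp e
        simp [pen, Fin.val_last] at h
        omega)]
      ring
    · rw [if_neg hp]
      ring
  · rw [genU_coe, add_sub_right_comm, Matrix.add_apply, vecMulVec_apply, Pi.single_apply, Pi.single_apply,
      Matrix.sub_apply, coreMat_apply, Matrix.one_apply, if_neg (show ¬ i.val = j.val by omega),
      if_neg (show ¬ (i.val = 0 ∧ j.val + 1 = m) by omega), if_neg (show ¬ (i.val = 0 ∧ j.val + 2 = m) by omega),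
      if_neg (show i ≠ j from fun e => by rw [e] at h; omega)]
    by_cases hj : j.val < m
    · rw [if_pos (show i.val + 1 = j.val ∧ j.val < m from ⟨h, hj⟩),
        if_neg (show j ≠ Fin.last m from fun e => by rw [e] at hj; simp at hj)]
      simp
    · rw [if_neg (show ¬ (i.val + 1 = j.val ∧ j.val < m) by omega),
        if_pos (show i = pen m from Fin.ext (by simp [pen]; omega)),
        if_pos (show j = Fin.last m from Fin.ext (by simp; omega))]
      simp

/-- `genV` is conjugate to `1 + N` in `SL` for the right value of `b`. -/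
theorem genV_conj (hm : 4 ≤ m) (κ μ : F) {b : F}
    (hb : ((Equiv.Perm.sign (toFirst m).symm : ℤ) : F) * b = 1) :
    ∃ P : Matrix.SpecialLinearGroup (Fin (m + 1)) F, genV (by omega) κ μ b * P = P * up F m := by
  have h3 : 3 ≤ m := by omega
  set V := (genV h3 κ μ b : Matrix (Fin (m + 1)) (Fin (m + 1)) F) with hV
  have hval : ∀ i j : Fin (m + 1), (V.submatrix (toFirst m) (toFirst m) - 1) i j =
      coreMat m κ μ (toFirst m i) (toFirst m j) +
        (if i.val = 0 then b * coreMat m κ μ 0 (toFirst m j) else 0) -
        (if i.val = j.val then 1 else 0) := by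
    intro i j
    have hi := toFirst_val m i
    rw [hV, Matrix.sub_apply, Matrix.submatrix_apply, genV_coe, Matrix.add_apply, vecMulVec_apply,
      Pi.smul_apply, smul_eq_mul, Matrix.one_apply, Pi.single_apply]
    simp only [Fin.ext_iff, Fin.val_last]
    by_cases h0 : i.val = 0
    · rw [if_pos h0] at hi ⊢
      rw [if_pos hi, one_mul]
    · rw [if_neg h0] at hi ⊢
      rw [if_neg (by omega), zero_mul]
  suffices hex : ∃ P, P.det = b ∧
      V.submatrix (toFirst m) (toFirst m) * P = P * upMat F m by
    obtain ⟨P, hd, he⟩ := hex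
    refine ⟨⟨P.submatrix (toFirst m).symm id, by rw [Matrix.det_permute, hd, hb]⟩, Subtype.ext ?_⟩
    show V * P.submatrix (toFirst m).symm id = P.submatrix (toFirst m).symm id * upMat F m
    calc V * P.submatrix (toFirst m).symm id
        = (V.submatrix (toFirst m) (toFirst m)).submatrix (toFirst m).symm (toFirst m).symm *
            P.submatrix (toFirst m).symm id := by simp
      _ = (V.submatrix (toFirst m) (toFirst m) * P).submatrix (toFirst m).symm id :=
          Matrix.submatrix_mul_equiv _ _ _ _ _
      _ = (P * upMat F m).submatrix (toFirst m).symm id := by rw [he]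
      _ = P.submatrix (toFirst m).symm id * upMat F m := by ext i j; simp [Matrix.mul_apply]
  refine exists_to_upMat (by omega) (fun i j h => ?_) fun i j h => ?_
  · have hi := toFirst_val m i
    have hj := toFirst_val m j
    rw [hval]
    by_cases h0 : i.val = 0
    · have hj0 : j.val = 0 := by omega
      rw [if_pos h0] at hi
      rw [if_pos hj0] at hj
      rw [if_pos h0, if_pos (show i.val = j.val by omega), coreMat_apply, coreMat_apply]
      simp only [hi, hj, Fin.val_zero]
      rw [if_pos trivial, if_neg (by omega), if_neg (by omega), if_neg (by omega),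
        if_neg (by omega), if_neg (by omega), if_neg (by omega), if_neg (by omega)]
      ring
    · rw [if_neg h0] at hi
      rw [if_neg h0, coreMat_apply]
      simp only [hi, hj]
      by_cases hj0 : j.val = 0
      · simp only [if_pos hj0]
        rw [if_neg (by omega), if_neg (by omega), if_neg (by omega), if_neg (by omega), if_neg (by omega)]
        ring
      · simp only [if_neg hj0]
        rw [if_neg (show ¬ (i.val - 1 + 1 = j.val - 1 ∧ j.val - 1 < m) by omega),
          if_neg (show ¬ (i.val - 1 = 0 ∧ j.val - 1 + 1 = m) by omega),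
          if_neg (show ¬ (i.val - 1 = 0 ∧ j.val - 1 + 2 = m) by omega)]
        by_cases he : i.val = j.val
        · rw [if_pos he, if_pos (by omega)]
          ring
        · rw [if_neg he, if_neg (by omega)]
          ring
  · have hi := toFirst_val m i
    have hj := toFirst_val m j
    rw [if_neg (show ¬ j.val = 0 by omega)] at hj
    rw [hval, if_neg (show ¬ i.val = j.val by omega)]
    by_cases h0 : i.val = 0
    · rw [if_pos h0] at hi
      rw [if_pos h0, if_pos h0, coreMat_apply, coreMat_apply]
      simp only [hi, hj, Fin.val_zero, true_and]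
      rw [if_neg (show ¬ m = j.val - 1 by omega), if_neg (show ¬ (m + 1 = j.val - 1 ∧ j.val - 1 < m) by omega),
        if_neg (show ¬ (m = 0 ∧ j.val - 1 + 1 = m) by omega),
        if_neg (show ¬ (m = 0 ∧ j.val - 1 + 2 = m) by omega),
        if_pos (show 0 = j.val - 1 by omega), if_neg (show ¬ (0 + 1 = j.val - 1 ∧ j.val - 1 < m) by omega),
        if_neg (show ¬ (j.val - 1 + 1 = m) by omega), if_neg (show ¬ (j.val - 1 + 2 = m) by omega)]
      ring
    · rw [if_neg h0] at hi
      rw [if_neg h0, if_neg h0, coreMat_apply]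
      simp only [hi, hj]
      rw [if_neg (show ¬ i.val - 1 = j.val - 1 by omega),
        if_pos (show i.val - 1 + 1 = j.val - 1 ∧ j.val - 1 < m by omega),
        if_neg (show ¬ (i.val - 1 = 0 ∧ j.val - 1 + 1 = m) by omega),
        if_neg (show ¬ (i.val - 1 = 0 ∧ j.val - 1 + 2 = m) by omega)]
      ring

lemma sign_toFirst (m : ℕ) : ((Equiv.Perm.sign (toFirst m).symm : ℤ) : F) = (-1) ^ m := by
  rw [toFirst, Equiv.symm_symm, sign_finRotate]
  simp

/-- Both generators in one conjugacy class. -/
theorem genV_eq_conj (hm : 4 ≤ m) (κ μ : F) {b : F} (hb : (-1 : F) ^ m * b = 1) :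
    ∃ g : Matrix.SpecialLinearGroup (Fin (m + 1)) F,
      g * genU (by omega) κ μ * g⁻¹ = genV (by omega) κ μ b := by
  obtain ⟨P, hP⟩ := genU_conj hm κ μ
  obtain ⟨R, hR⟩ := genV_conj hm κ μ (b := b) (by rw [sign_toFirst]; exact hb)
  refine ⟨R * P⁻¹, ?_⟩
  rw [eq_mul_inv_of_mul_eq hP, eq_mul_inv_of_mul_eq hR]
  group

end CfsgLib.SLRegGen
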