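import Cfsg.Agent.RootSubgroups.SLTransvection
import Cfsg.Agent.Classical.Linear.Generation

/-!
Transvections inside a subgroup `H` of `SL`: closure rules, and a generation criterion using two
elements `u`, `v` and one centre.
-/

set_option autoImplicit false

namespace CfsgLib.SLRegGen

open Matrix CfsgLib.RootSubgroups.SLTransv

variable {ι : Type} {F : Type*} [Fintype ι] [DecidableEq ι] [Field F]
variable {H : Subgroup (Matrix.SpecialLinearGroup ι F)}

/-- The transvection with centre `c` and axis functional `φ` lies in `H`. -/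
def TR (H : Subgroup (Matrix.SpecialLinearGroup ι F)) (c φ : ι → F) : Prop :=
  φ ⬝ᵥ c = 0 ∧ tv c φ ∈ H

lemma TR.of_coe {c φ : ι → F} (h : φ ⬝ᵥ c = 0) {g : Matrix.SpecialLinearGroup ι F} (hg : g ∈ H)
    (he : (g : Matrix ι ι F) = 1 + vecMulVec c φ) : TR H c φ := by
  refine ⟨h, ?_⟩
  rwa [show tv c φ = g from Subtype.ext ((coe_tv h).trans he.symm)]

lemma TR.zero (c : ι → F) : TR H c 0 := ⟨zero_dotProduct c, by rw [tv_zero]; exact H.one_mem⟩

lemma TR.add {c φ ψ : ι → F} (h : TR H c φ) (h' : TR H c ψ) : TR H c (φ + ψ) :=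
  ⟨by rw [add_dotProduct, h.1, h'.1, add_zero], by rw [← tv_mul h.1 h'.1]; exact H.mul_mem h.2 h'.2⟩

lemma TR.neg {c φ : ι → F} (h : TR H c φ) : TR H c (-φ) :=
  ⟨by rw [neg_dotProduct, h.1, neg_zero], by rw [← tv_inv h.1]; exact H.inv_mem h.2⟩

/-- The functionals of transvections in `H` with given centre. -/
def axisGroup (H : Subgroup (Matrix.SpecialLinearGroup ι F)) (c : ι → F) : AddSubgroup (ι → F) where
  carrier := {φ | TR H c φ}
  zero_mem' := TR.zero c
  add_mem' := TR.add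
  neg_mem' := TR.neg

lemma TR.zsmul {c φ : ι → F} (h : TR H c φ) (m : ℤ) : TR H c ((m : F) • φ) := by
  have h1 : m • φ ∈ axisGroup H c := (axisGroup H c).zsmul_mem h m
  rw [← Int.cast_smul_eq_zsmul F] at h1
  exact h1

/-- Integers prime to the characteristic may be divided out. -/
lemma TR.of_zsmul [Finite F] {c φ : ι → F} (m : ℤ) (hm : (m : F) ≠ 0) (h : TR H c ((m : F) • φ)) :
    TR H c φ := by
  obtain ⟨k, hk⟩ : ∃ k : ℤ, (k : F) * (m : F) = 1 := by
    obtain ⟨N, hN⟩ : ∃ N : ℕ, 0 < N ∧ (m : F) ^ N = 1 := by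
      have hu : IsOfFinOrder (Units.mk0 (m : F) hm) := isOfFinOrder_of_finite _
      refine ⟨_, hu.orderOf_pos, ?_⟩
      have h2 := pow_orderOf_eq_one (Units.mk0 (m : F) hm)
      rw [Units.ext_iff, Units.val_pow_eq_pow_val, Units.val_one] at h2
      exact h2
    refine ⟨m ^ (N - 1), ?_⟩
    rw [Int.cast_pow, ← pow_succ, Nat.sub_add_cancel hN.1, hN.2]
  have h1 := h.zsmul k
  rwa [smul_smul, hk, one_smul] at h1

lemma TR.conj {c φ : ι → F} (h : TR H c φ) {g : Matrix.SpecialLinearGroup ι F} (hg : g ∈ H) :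
    TR H ((g : Matrix ι ι F) *ᵥ c)
      (φ ᵥ* ((g⁻¹ : Matrix.SpecialLinearGroup ι F) : Matrix ι ι F)) :=
  ⟨by rw [dot_conj, h.1], by rw [← conj_tv h.1]; exact H.mul_mem (H.mul_mem hg h.2) (H.inv_mem hg)⟩

/-- Conjugation, with the image functional given by its pull-back. -/
lemma TR.conj' {c φ ψ : ι → F} (h : TR H c φ) {g : Matrix.SpecialLinearGroup ι F} (hg : g ∈ H)
    (hψ : ψ ᵥ* (g : Matrix ι ι F) = φ) : TR H ((g : Matrix ι ι F) *ᵥ c) ψ := by
  have h1 := h.conj hg
  rwa [← hψ, vecMul_vecMul, ← Matrix.SpecialLinearGroup.coe_mul, mul_inv_cancel,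
    Matrix.SpecialLinearGroup.coe_one, vecMul_one] at h1

lemma TR.comm {c φ d ψ : ι → F} (h : TR H c φ) (h' : TR H d ψ) (hz : ψ ⬝ᵥ c = 0) :
    TR H c ((φ ⬝ᵥ d) • ψ) := by
  refine ⟨smul_dot hz _, ?_⟩
  rw [← tv_commutator h.1 h'.1 hz]
  exact H.mul_mem (H.mul_mem (H.mul_mem h.2 h'.2) (H.inv_mem h.2)) (H.inv_mem h'.2)

lemma TR.smul_centre {c φ : ι → F} {k : F} (h : TR H c (k • φ)) (hk : φ ⬝ᵥ c = 0) :
    TR H (k • c) φ :=
  TR.of_coe (by rw [dotProduct_smul, hk, smul_zero]) h.2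
    (by rw [coe_tv h.1, vecMulVec_smul, smul_vecMulVec])

/-- All transvections with centre `c` are in `H`. -/
def FullCentre (H : Subgroup (Matrix.SpecialLinearGroup ι F)) (c : ι → F) : Prop :=
  ∀ φ : ι → F, φ ⬝ᵥ c = 0 → TR H c φ

lemma FullCentre.map {c : ι → F} (h : FullCentre H c) {g : Matrix.SpecialLinearGroup ι F} (hg : g ∈ H) :
    FullCentre H ((g : Matrix ι ι F) *ᵥ c) := by
  intro ψ hψ
  exact (h (ψ ᵥ* (g : Matrix ι ι F)) (by rw [← dotProduct_mulVec, hψ])).conj' hg rfl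

lemma FullCentre.smul {c : ι → F} (h : FullCentre H c) (k : F) : FullCentre H (k • c) := by
  intro φ hφ
  by_cases hk : k = 0
  · subst hk
    exact TR.of_coe hφ H.one_mem (by simp)
  · have hc : φ ⬝ᵥ c = 0 := by
      rwa [dotProduct_smul, smul_eq_mul, mul_eq_zero, or_iff_right hk] at hφ
    exact (h (k • φ) (smul_dot hc k)).smul_centre hc

lemma exists_dual {c d : ι → F} (hc : c ≠ 0) (hd : ∀ k : F, d ≠ k • c) :
    ∃ φ : ι → F, φ ⬝ᵥ c = 0 ∧ φ ⬝ᵥ d = 1 := by
  obtain ⟨i, hi⟩ := Function.ne_iff.1 hc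
  rw [Pi.zero_apply] at hi
  obtain ⟨j, hj⟩ := Function.ne_iff.1 (hd (d i / c i))
  rw [Pi.smul_apply, smul_eq_mul] at hj
  set r : F := d j - d i / c i * c j with hr
  have hr0 : r ≠ 0 := sub_ne_zero.2 hj
  refine ⟨r⁻¹ • (Pi.single j 1 - (c j / c i) • Pi.single i 1), ?_, ?_⟩
  · simp only [smul_dotProduct, sub_dotProduct, single_one_dotProduct, smul_eq_mul]
    rw [div_mul_cancel₀ _ hi, sub_self, mul_zero]
  · simp only [smul_dotProduct, sub_dotProduct, single_one_dotProduct, smul_eq_mul]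
    rw [show c j / c i * d i = d i / c i * c j by ring, ← hr, inv_mul_cancel₀ hr0]

lemma FullCentre.add {c d : ι → F} (hc : FullCentre H c) (hd : FullCentre H d) :
    FullCentre H (c + d) := by
  by_cases hc0 : c = 0
  · rwa [hc0, zero_add]
  by_cases h : ∀ k : F, d ≠ k • c
  · obtain ⟨φ, hφc, hφd⟩ := exists_dual hc0 h
    have h1 := hd.map (hc φ hφc).2
    rwa [coe_tv hφc, add_mulVec, one_mulVec, vecMulVec_mulVec, hφd, MulOpposite.op_one, one_smul,
      add_comm] at h1
  · push Not at h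
    obtain ⟨k, rfl⟩ := h
    rw [show c + k • c = (1 + k) • c by rw [add_smul, one_smul]]
    exact hc.smul _

/-- The generation criterion: a centre `e` fixed by `v`, a functional `f` with `f u = f v`, one
transvection `(e, x f)` in `H` such that the numbers `x · (f vⁱ)(u e)` generate the field, the
functionals `f vⁱ` span the annihilator of `e`, and no proper subspace through `e` is invariant. -/
theorem eq_top_of_centre [Finite F] {u v : Matrix.SpecialLinearGroup ι F} (hu : u ∈ H) (hv : v ∈ H)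
    {e f : ι → F} (hve : (v : Matrix ι ι F) *ᵥ e = e)
    (hfuv : f ᵥ* (u : Matrix ι ι F) = f ᵥ* (v : Matrix ι ι F)) {x : F} (hx : x ≠ 0)
    (hTR : TR H e (x • f))
    (hgen : ∀ K : Subring F,
      (∀ i : ℕ, x * ((f ᵥ* ((v : Matrix ι ι F) ^ i)) ⬝ᵥ ((u : Matrix ι ι F) *ᵥ e)) ∈ K) → K = ⊤)
    (hspan : ∀ φ : ι → F, φ ⬝ᵥ e = 0 →
      φ ∈ Submodule.span F (Set.range fun i : ℕ => f ᵥ* ((v : Matrix ι ι F) ^ i)))
    (hirr : ∀ C : Submodule F (ι → F), e ∈ C → (∀ y ∈ C, (u : Matrix ι ι F) *ᵥ y ∈ C) →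
      (∀ y ∈ C, (v : Matrix ι ι F) *ᵥ y ∈ C) → C = ⊤) : H = ⊤ := by
  classical
  have hiter : ∀ (i : ℕ) (φ : ι → F), TR H e φ → TR H e (φ ᵥ* ((v : Matrix ι ι F) ^ i)) := by
    intro i
    induction i with
    | zero => intro φ h; rwa [pow_zero, vecMul_one]
    | succ i ih =>
      intro φ h
      rw [pow_succ, ← vecMul_vecMul]
      have h1 := (ih φ h).conj (H.inv_mem hv)
      rw [inv_inv] at h1
      convert h1 using 2
      conv_lhs => rw [← one_mulVec e, ← Matrix.SpecialLinearGroup.coe_one, ← inv_mul_cancel v,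
        Matrix.SpecialLinearGroup.coe_mul, ← mulVec_mulVec, hve]
  let X0 : AddSubgroup F :=
    { carrier := {y | TR H e (y • f)}
      zero_mem' := by show TR H e ((0 : F) • f); rw [zero_smul]; exact TR.zero e
      add_mem' := fun {a b} ha hb => by show TR H e ((a + b) • f); rw [add_smul]; exact ha.add hb
      neg_mem' := fun {a} ha => by show TR H e ((-a) • f); rw [neg_smul]; exact ha.neg }
  let K : Subring F :=
    { carrier := {k | ∀ y ∈ X0, k * y ∈ X0}
      mul_mem' := fun {a b} ha hb y hy => by rw [mul_assoc]; exact ha _ (hb y hy)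
      one_mem' := fun y hy => by rwa [one_mul]
      add_mem' := fun {a b} ha hb y hy => by rw [add_mul]; exact X0.add_mem (ha y hy) (hb y hy)
      zero_mem' := fun y _ => by rw [zero_mul]; exact X0.zero_mem
      neg_mem' := fun {a} ha y hy => by rw [neg_mul]; exact X0.neg_mem (ha y hy) }
  have hK : K = ⊤ := hgen K fun i y hy => by
    have h1 : TR H e ((x • f) ᵥ* ((v : Matrix ι ι F) ^ i)) := hiter i _ hTR
    have h2 : TR H e ((y • f) ᵥ* ((v : Matrix ι ι F) ^ 1)) := hiter 1 _ hy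
    have h3 : TR H ((u : Matrix ι ι F) *ᵥ e) (y • f) :=
      h2.conj' hu (by rw [pow_one, smul_vecMul, smul_vecMul, hfuv])
    have h4 := h1.comm h3 hy.1
    show TR H e ((_ * y) • f)
    convert h4 using 1
    rw [smul_smul, smul_vecMul, smul_dotProduct, smul_eq_mul]
  have hX : ∀ y : F, TR H e (y • f) := fun y => by
    have h1 : y * x⁻¹ ∈ K := by rw [hK]; exact Subring.mem_top _
    have h2 : (y * x⁻¹) * x ∈ X0 := h1 x hTR
    rwa [mul_assoc, inv_mul_cancel₀ hx, mul_one] at h2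
  have he : FullCentre H e := by
    have key : ∀ z ∈ Submodule.span F (Set.range fun i : ℕ => f ᵥ* ((v : Matrix ι ι F) ^ i)),
        ∀ k : F, TR H e (k • z) := by
      intro z hz
      induction hz using Submodule.span_induction with
      | mem z hz =>
        intro k
        obtain ⟨i, rfl⟩ := hz
        rw [← smul_vecMul]
        exact hiter i _ (hX k)
      | zero => intro k; rw [smul_zero]; exact TR.zero e
      | add a b _ _ ha hb => intro k; rw [smul_add]; exact (ha k).add (hb k)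
      | smul r a _ ha => intro k; rw [smul_smul]; exact ha _
    intro φ hφ
    simpa using key φ (hspan φ hφ) 1
  let C : Submodule F (ι → F) :=
    { carrier := {c | FullCentre H c}
      zero_mem' := by simpa using he.smul (0 : F)
      add_mem' := FullCentre.add
      smul_mem' := fun k _ h => h.smul k }
  have hC : C = ⊤ := hirr C he (fun y hy => FullCentre.map hy hu) (fun y hy => FullCentre.map hy hv)
  refine CfsgLib.Classical.Linear.eq_top_of_transvection_mem fun i j hij a => ?_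
  rw [transvection_eq_tv]
  exact ((show Pi.single i (1 : F) ∈ C by rw [hC]; trivial) _ (by simp [hij.symm])).2

end CfsgLib.SLRegGen
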