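import Cfsg.Agent.SLRegGen.ChainConj

/-!
The choices of parameters.
-/

set_option autoImplicit false

namespace CfsgLib.SLRegGen

open Matrix

variable {F : Type*} [Field F] [Finite F]

lemma subring_inv_mem (K : Subring F) {z : F} (hz : z ∈ K) : z⁻¹ ∈ K := by
  classical
  letI := Fintype.ofFinite F
  by_cases h : z = 0
  · subst h
    simp
  · have h2 : 2 ≤ Fintype.card F := Fintype.one_lt_card
    have h1 : z ^ (Fintype.card F - 2) * z = 1 := by
      rw [← pow_succ, show Fintype.card F - 2 + 1 = Fintype.card F - 1 by omega]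
      exact FiniteField.pow_card_sub_one_eq_one z h
    rw [← eq_inv_of_mul_eq_one_left h1]
    exact K.pow_mem hz _

lemma exists_subring_generator :
    ∃ θ : F, θ ≠ 0 ∧ ∀ K : Subring F, θ ∈ K → K = ⊤ := by
  obtain ⟨g, hg⟩ := IsCyclic.exists_generator (α := Fˣ)
  refine ⟨(g : F), g.ne_zero, fun K hK => ?_⟩
  rw [eq_top_iff]
  intro c _
  by_cases hc : c = 0
  · subst hc; exact K.zero_mem
  obtain ⟨k, hk⟩ := (mem_powers_iff_mem_zpowers.2 (hg (Units.mk0 c hc)) :
    Units.mk0 c hc ∈ Submonoid.powers g)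
  have h := congrArg Units.val hk
  simp only [Units.val_pow_eq_pow_val, Units.val_mk0] at h
  rw [← h]
  exact K.pow_mem hK k

lemma subring_eq_top_of_prime [Fintype F] (hp : (Fintype.card F).Prime) (K : Subring F) : K = ⊤ := by
  classical
  rw [eq_top_iff]
  intro x _
  have hc : CharP F (Fintype.card F) := by
    obtain ⟨n, hp', hn⟩ := FiniteField.card F (ringChar F)
    rw [hn] at hp ⊢
    rw [(hp.eq_one_of_pow : (n : ℕ) = 1), pow_one]
    exact ringChar.charP F
  obtain ⟨k, rfl⟩ := (ZMod.ringEquivOfPrime F hp rfl).surjective x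
  obtain ⟨z, rfl⟩ := ZMod.intCast_surjective k
  rw [map_intCast]
  exact intCast_mem K z

/-- A transvection of the block, in every odd characteristic. -/
lemma block_transvection_of_two_ne (h2 : (2 : F) ≠ 0) : ∃ z : ℤ, (z : F) ≠ 0 ∧
    ∀ H : Subgroup (Matrix.SpecialLinearGroup (Fin 3) F), blockW (2 : F) ∈ H → blockX (2 : F) ∈ H →
      TR H ![1, 0, 0] ![0, 0, (z : F)] := by
  by_cases h3 : (3 : F) = 0
  · exact ⟨1, by simp, fun H hw hx => by simpa using block_transvection_three h3 hw hx⟩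
  · refine ⟨-4, ?_, fun H hw hx => by simpa using block_transvection_odd h2 h3 hw hx⟩
    have : ((-4 : ℤ) : F) = -(2 : F) ^ 2 := by norm_num
    rw [this]
    exact neg_ne_zero.2 (pow_ne_zero _ h2)

/-- Odd characteristic, dimension at least five, field generator `κ`. -/
theorem two_gen_odd {m : ℕ} (hm : 4 ≤ m) (h2 : (2 : F) ≠ 0) {κ : F} (hκ : κ ≠ 0)
    (hgen : ∀ K : Subring F, κ ∈ K → K = ⊤) :
    Subgroup.closure ({genU (by omega) κ (2 * κ + (-1) ^ m),
      genV (by omega) κ (2 * κ + (-1) ^ m) (2 / κ)} :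
        Set (Matrix.SpecialLinearGroup (Fin (m + 1)) F)) = ⊤ := by
  obtain ⟨z, hz, hT⟩ := block_transvection_of_two_ne h2
  have hs : sVal m κ (2 * κ + (-1) ^ m) = κ := by rw [sVal]; ring
  refine closure_eq_top (by omega) κ _ (Or.inr hm) hκ (by rwa [hs]) _ hz (fun H hw hx => ?_) fun K _ hK => ?_
  · rw [hs, div_mul_cancel₀ _ hκ] at hw
    rw [div_mul_cancel₀ _ hκ] at hx
    exact hT H hw hx
  · rw [hs, coreMat_sq_zero_pen hm] at hK
    apply hgen K
    have e : (z : F) / κ * (2 * κ + (2 * κ + (-1) ^ m)) = 4 * z + (-1) ^ m * (z / κ) := by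
      field_simp
      ring
    rw [e] at hK
    have h1 : (-1 : F) ^ m * (z / κ) ∈ K := by
      have h4 : (4 : F) * z ∈ K := by exact_mod_cast intCast_mem K (4 * z)
      simpa using K.sub_mem hK h4
    have h1' : (z : F) / κ ∈ K := by
      have h5 := K.mul_mem (K.pow_mem (K.neg_mem K.one_mem) m) h1
      rwa [← mul_assoc, ← pow_add, ← two_mul, pow_mul, neg_one_sq, one_pow, one_mul] at h5
    have h6 := K.mul_mem (intCast_mem K z) (subring_inv_mem K h1')
    rwa [inv_div, mul_comm, div_mul_cancel₀ _ hz] at h6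

/-- Characteristic two. -/
theorem two_gen_even {m : ℕ} (hm : 3 ≤ m) (h2 : (2 : F) = 0) {θ : F} (hθ : θ ≠ 0) {κ μ b : F}
    (hμ : μ = 0 ∨ 4 ≤ m) (hκ : κ ≠ 0) (hs : sVal m κ μ = θ ^ 2 * κ) (hb : b * (θ * κ) = 1)
    (hgen : ∀ K : Subring F, θ ∈ K → K = ⊤) :
    Subgroup.closure ({genU hm κ μ, genV hm κ μ b} :
        Set (Matrix.SpecialLinearGroup (Fin (m + 1)) F)) = ⊤ := by
  classical
  letI := Fintype.ofFinite F
  have hs0 : sVal m κ μ ≠ 0 := by rw [hs]; exact mul_ne_zero (pow_ne_zero _ hθ) hκ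
  refine closure_eq_top hm κ μ hμ hκ hs0 b one_ne_zero (fun H hw hx => ?_) fun K hK _ => ?_
  · exact block_transvection_two h2 (α := b * sVal m κ μ) (β := b * κ)
      (by rw [hs]; linear_combination (b * θ * κ + 1) * hb) hw hx
  · apply hgen K
    have h1 : θ ^ 2 ∈ K := by
      have := subring_inv_mem K hK
      rw [hs] at this
      convert this using 1
      field_simp
    have hc : Even (Fintype.card F) := by
      rw [Nat.even_iff]
      by_contra hodd
      have := FiniteField.even_card_iff_char_two (F := F)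
      have h2' : ringChar F = 2 := by
        have : CharP F 2 := CharTwo.of_one_ne_zero_of_two_eq_zero one_ne_zero h2
        exact ringChar.eq F 2
      omega
    obtain ⟨r, hr⟩ := hc
    have := K.pow_mem h1 r
    rwa [← pow_mul, show 2 * r = Fintype.card F by omega, FiniteField.pow_card] at this

end CfsgLib.SLRegGen
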