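import Cfsg.Agent.SLRegGen.Chain
import Cfsg.Agent.SLRegGen.BlockThree

/-!
Two regular unipotent elements `(1 + E lnᵀ) J` and `(1 + b e fᵀ) J` generating `SL (m + 1) F`.
-/

set_option autoImplicit false

namespace CfsgLib.SLRegGen

open Matrix CfsgLib.RootSubgroups.SLTransv

variable {F : Type*} [Field F] {m : ℕ}

/-- The common part of the two generators. -/
def coreMat (m : ℕ) (κ μ : F) : Matrix (Fin (m + 1)) (Fin (m + 1)) F :=
  Matrix.of fun i j =>
    (if i.val = j.val then 1 else 0) + (if i.val + 1 = j.val ∧ j.val < m then 1 else 0) +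
      (if i.val = 0 ∧ j.val + 1 = m then κ else 0) + (if i.val = 0 ∧ j.val + 2 = m then μ else 0)

lemma coreMat_apply (κ μ : F) (i j : Fin (m + 1)) : coreMat m κ μ i j =
    (if i.val = j.val then 1 else 0) + (if i.val + 1 = j.val ∧ j.val < m then 1 else 0) +
      (if i.val = 0 ∧ j.val + 1 = m then κ else 0) + (if i.val = 0 ∧ j.val + 2 = m then μ else 0) := rfl

lemma det_coreMat (hm : 3 ≤ m) (κ μ : F) : (coreMat m κ μ).det = 1 := by
  rw [Matrix.det_of_upperTriangular]
  · refine Finset.prod_eq_one fun i _ => ?_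
    rw [coreMat_apply, if_pos rfl, if_neg (by omega), if_neg (by omega), if_neg (by omega)]
    simp
  · intro i j hij
    have hlt : j.val < i.val := hij
    rw [coreMat_apply, if_neg (by omega), if_neg (by omega), if_neg (by omega), if_neg (by omega)]
    simp

/-- Evaluation of the common part on a vector. -/
lemma coreMat_mulVec (hm : 3 ≤ m) (κ μ : F) (x : Fin (m + 1) → F) (i : Fin (m + 1)) :
    (coreMat m κ μ *ᵥ x) i = x i + (if h : i.val + 1 < m then x ⟨i.val + 1, by omega⟩ else 0) +
      (if i.val = 0 then κ * x ⟨m - 1, by omega⟩ + μ * x ⟨m - 2, by omega⟩ else 0) := by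
  simp only [Matrix.mulVec, dotProduct, coreMat_apply, add_mul, ite_mul, one_mul, zero_mul,
    Finset.sum_add_distrib]
  have e1 : (∑ j : Fin (m + 1), if i.val = j.val then x j else 0) = x i := by
    rw [Finset.sum_eq_single i] <;> simp (config := {contextual := true}) [Fin.ext_iff, eq_comm]
  have e2 : (∑ j : Fin (m + 1), if i.val + 1 = j.val ∧ j.val < m then x j else 0) =
      if h : i.val + 1 < m then x ⟨i.val + 1, by omega⟩ else 0 := by
    by_cases h : i.val + 1 < m
    · rw [dif_pos h, Finset.sum_eq_single (⟨i.val + 1, by omega⟩ : Fin (m + 1))]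
      · simp [h]
      · intro j _ hj
        rw [if_neg]
        rintro ⟨e, -⟩
        exact hj (Fin.ext e.symm)
      · simp
    · rw [dif_neg h]
      exact Finset.sum_eq_zero fun j _ => if_neg (by omega)
  have e3 : ∀ (d : ℕ) (hd : 1 ≤ d) (hdm : d ≤ m) (c : F),
      (∑ j : Fin (m + 1), if i.val = 0 ∧ j.val + d = m then c * x j else 0) =
        if i.val = 0 then c * x ⟨m - d, by omega⟩ else 0 := by
    intro d hd hdm c
    by_cases h : i.val = 0
    · rw [if_pos h, Finset.sum_eq_single (⟨m - d, by omega⟩ : Fin (m + 1))]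
      · rw [if_pos ⟨h, by simp; omega⟩]
      · intro j _ hj
        rw [if_neg]
        rintro ⟨-, e⟩
        exact hj (Fin.ext (by simp; omega))
      · simp
    · rw [if_neg h]
      exact Finset.sum_eq_zero fun j _ => if_neg (by omega)
  rw [e1, e2, e3 1 le_rfl (by omega), e3 2 (by omega) (by omega)]
  by_cases h : i.val = 0
  · simp only [if_pos h]
    ring
  · simp only [if_neg h]
    ring

/-- The core as an element of `SL`. -/
def core (hm : 3 ≤ m) (κ μ : F) : Matrix.SpecialLinearGroup (Fin (m + 1)) F :=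
  ⟨coreMat m κ μ, det_coreMat hm κ μ⟩

lemma core_coe (hm : 3 ≤ m) (κ μ : F) :
    ((core hm κ μ : Matrix.SpecialLinearGroup (Fin (m + 1)) F) : Matrix _ _ F) = coreMat m κ μ := rfl

/-- The index `m - 1`. -/
def pen (m : ℕ) : Fin (m + 1) := ⟨m - 1, by omega⟩

lemma coreMat_mulVec_last (hm : 3 ≤ m) (κ μ : F) :
    coreMat m κ μ *ᵥ Pi.single (Fin.last m) 1 = Pi.single (Fin.last m) 1 := by
  funext i
  rw [coreMat_mulVec hm]
  have h1 : ∀ j : Fin (m + 1), j.val < m → (Pi.single (Fin.last m) (1 : F) : Fin (m + 1) → F) j = 0 :=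
    fun j hj => Pi.single_eq_of_ne (fun e => by subst e; simp at hj) _
  rw [h1 ⟨m - 1, _⟩ (by simp; omega), h1 ⟨m - 2, _⟩ (by simp; omega)]
  by_cases h : i.val + 1 < m
  · rw [dif_pos h, h1 ⟨i.val + 1, _⟩ h]
    simp
  · rw [dif_neg h]
    simp

lemma single_last_vecMul_coreMat (hm : 3 ≤ m) (κ μ : F) :
    Pi.single (Fin.last m) 1 ᵥ* coreMat m κ μ = Pi.single (Fin.last m) 1 := by
  funext j
  rw [single_one_vecMul, Matrix.row_apply, coreMat_apply, if_neg (show ¬ ((Fin.last m).val + 1 = j.val ∧ j.val < m) by simp; omega),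
    if_neg (show ¬ ((Fin.last m).val = 0 ∧ j.val + 1 = m) by simp; omega),
    if_neg (show ¬ ((Fin.last m).val = 0 ∧ j.val + 2 = m) by simp; omega)]
  simp [Pi.single_apply, Fin.ext_iff, eq_comm]

/-- The value of `f J⁻¹` at `E`. -/
def sVal (m : ℕ) (κ μ : F) : F := μ - κ - (-1) ^ m

/-- The vector `J⁻¹ E`. -/
def preVec (m : ℕ) (κ μ : F) : Fin (m + 1) → F := fun j =>
  if j.val = 0 then sVal m κ μ else if j.val < m then (-1) ^ (m - 1 - j.val) else 0

lemma coreMat_mulVec_preVec (hm : 3 ≤ m) (κ μ : F) :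
    coreMat m κ μ *ᵥ preVec m κ μ = Pi.single (pen m) 1 := by
  funext i
  rw [coreMat_mulVec hm]
  simp only [preVec, pen, Pi.single_apply, Fin.ext_iff]
  by_cases h0 : i.val = 0
  · rw [if_pos h0, dif_pos (by omega), if_pos h0, if_neg (show ¬ (i.val + 1 = 0) by omega),
      if_pos (show i.val + 1 < m by omega), if_neg (show ¬ (m - 1 = 0) by omega),
      if_pos (show m - 1 < m by omega), if_neg (show ¬ (m - 2 = 0) by omega),
      if_pos (show m - 2 < m by omega), if_neg (show ¬ (i.val = m - 1) by omega), sVal,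
      show m - 1 - (m - 1) = 0 by omega, show m - 1 - (m - 2) = 1 by omega, h0]
    obtain ⟨r, hr⟩ := Nat.exists_eq_add_of_le hm
    subst hr
    rw [show 3 + r - 1 - (0 + 1) = r + 1 by omega, show 3 + r = r + 1 + 2 by omega, pow_add]
    ring
  · rw [if_neg h0, if_neg h0]
    by_cases h1 : i.val + 1 < m
    · rw [dif_pos h1, if_pos (show i.val < m by omega), if_neg (show ¬ (i.val + 1 = 0) by omega),
        if_pos h1, if_neg (show ¬ (i.val = m - 1) by omega),
        show m - 1 - i.val = (m - 1 - (i.val + 1)) + 1 by omega, pow_succ]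
      ring
    · rw [dif_neg h1]
      by_cases h2 : i.val < m
      · rw [if_pos h2, if_pos (show i.val = m - 1 by omega), show m - 1 - i.val = 0 by omega]
        simp
      · rw [if_neg h2, if_neg (show ¬ (i.val = m - 1) by omega)]
        simp

lemma coreMat_zero_pen (hm : 3 ≤ m) (κ μ : F) : coreMat m κ μ 0 (pen m) = κ := by
  rw [coreMat_apply, if_neg (by simp [pen]; omega), if_neg (by simp [pen]; omega),
    if_pos ⟨rfl, by simp [pen]; omega⟩, if_neg (by simp [pen]; omega)]
  ring

/-- The second power at the corner. -/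
lemma coreMat_sq_zero_pen (hm : 4 ≤ m) (κ μ : F) :
    (coreMat m κ μ ^ 2) 0 (pen m) = 2 * κ + μ := by
  have e : (coreMat m κ μ ^ 2) 0 (pen m) =
      (coreMat m κ μ *ᵥ (coreMat m κ μ *ᵥ Pi.single (pen m) 1)) 0 := by
    rw [mulVec_mulVec, ← pow_two, mulVec_single_one]
    rfl
  set y := coreMat m κ μ *ᵥ Pi.single (pen m) (1 : F) with hy
  have hE : ∀ (t : ℕ) (ht : t < m + 1),
      (Pi.single (pen m) (1 : F) : Fin (m + 1) → F) ⟨t, ht⟩ = if t = m - 1 then 1 else 0 := fun t ht => by
    simp [pen, Pi.single_apply, Fin.ext_iff]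
  have hv : ∀ (t : ℕ) (ht : t < m + 1), y ⟨t, ht⟩ =
      (if t = m - 1 then 1 else 0) + (if t + 1 < m then (if t + 1 = m - 1 then 1 else 0) else 0) +
        (if t = 0 then κ else 0) := fun t ht => by
    rw [hy, coreMat_mulVec (by omega), hE, hE, hE, if_neg (show ¬ m - 2 = m - 1 by omega), if_pos rfl]
    simp only [mul_one, mul_zero, add_zero]
    by_cases h : t + 1 < m
    · rw [dif_pos h, if_pos h, hE]
    · rw [dif_neg h, if_neg h]
  rw [e, coreMat_mulVec (by omega), show (0 : Fin (m + 1)) = ⟨0, Nat.succ_pos m⟩ from rfl, hv, hv, hv]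
  rw [dif_pos (show 0 + 1 < m by omega), hv, if_pos rfl, if_neg (show ¬ 0 = m - 1 by omega),
    if_pos (show 0 + 1 < m by omega), if_neg (show ¬ 0 + 1 = m - 1 by omega),
    if_pos (show 0 + 1 + 1 < m by omega), if_neg (show ¬ 0 + 1 + 1 = m - 1 by omega),
    if_neg (show ¬ 0 + 1 = 0 by omega), if_pos rfl, if_neg (show ¬ m - 1 + 1 < m by omega),
    if_neg (show ¬ m - 1 = 0 by omega), if_neg (show ¬ m - 2 = m - 1 by omega),
    if_pos (show m - 2 + 1 < m by omega), if_pos (show m - 2 + 1 = m - 1 by omega),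
    if_neg (show ¬ m - 2 = 0 by omega)]
  simp
  ring

/-- The first generator. -/
noncomputable def genU (hm : 3 ≤ m) (κ μ : F) : Matrix.SpecialLinearGroup (Fin (m + 1)) F :=
  tv (Pi.single (pen m) 1) (Pi.single (Fin.last m) 1) * core hm κ μ

/-- The second generator. -/
noncomputable def genV (hm : 3 ≤ m) (κ μ b : F) : Matrix.SpecialLinearGroup (Fin (m + 1)) F :=
  tv (Pi.single (Fin.last m) 1) (Pi.single 0 b) * core hm κ μ

lemma last_dot_pen (hm : 3 ≤ m) :
    (Pi.single (Fin.last m) (1 : F) : Fin (m + 1) → F) ⬝ᵥ Pi.single (pen m) 1 = 0 := by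
  rw [dotProduct_single, mul_one, Pi.single_eq_of_ne]
  intro h
  have h' := congrArg Fin.val h
  simp [pen] at h'
  omega

lemma zero_dot_last (hm : 3 ≤ m) (b : F) :
    (Pi.single (0 : Fin (m + 1)) b : Fin (m + 1) → F) ⬝ᵥ Pi.single (Fin.last m) 1 = 0 := by
  rw [dotProduct_single, mul_one, Pi.single_eq_of_ne]
  intro h
  have h' := congrArg Fin.val h
  simp at h'
  omega

lemma genU_coe (hm : 3 ≤ m) (κ μ : F) :
    (genU hm κ μ : Matrix (Fin (m + 1)) (Fin (m + 1)) F) =
      coreMat m κ μ + vecMulVec (Pi.single (pen m) 1) (Pi.single (Fin.last m) 1) := by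
  rw [genU, Matrix.SpecialLinearGroup.coe_mul, coe_tv (last_dot_pen hm), core_coe, add_mul, one_mul,
    vecMulVec_mul, single_last_vecMul_coreMat hm]

lemma genV_coe (hm : 3 ≤ m) (κ μ b : F) :
    (genV hm κ μ b : Matrix (Fin (m + 1)) (Fin (m + 1)) F) =
      coreMat m κ μ + vecMulVec (Pi.single (Fin.last m) 1) (b • coreMat m κ μ 0) := by
  rw [genV, Matrix.SpecialLinearGroup.coe_mul, coe_tv (zero_dot_last hm b), core_coe, add_mul, one_mul,
    vecMulVec_mul]
  congr 2
  funext j
  simp [single_vecMul, Pi.smul_apply]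

/-- `genU` is regular unipotent. -/
theorem genU_regular (hm : 3 ≤ m) (κ μ : F) (hμ : μ = 0 ∨ 4 ≤ m) :
    IsNilpotent ((genU hm κ μ : Matrix (Fin (m + 1)) (Fin (m + 1)) F) - 1) ∧
      ((genU hm κ μ : Matrix (Fin (m + 1)) (Fin (m + 1)) F) - 1) ^ (m + 1 - 1) ≠ 0 := by
  refine regular_of_unitriangular (by omega) (fun i j h => ?_) fun i j h => ?_
  · rw [genU_coe, Matrix.sub_apply, Matrix.add_apply, vecMulVec_apply, coreMat_apply, Matrix.one_apply,
      Pi.single_apply, Pi.single_apply, if_neg (show ¬ (i.val + 1 = j.val ∧ j.val < m) by omega),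
      if_neg (show ¬ (i.val = 0 ∧ j.val + 1 = m) by omega),
      if_neg (show ¬ (i.val = 0 ∧ j.val + 2 = m) by omega)]
    by_cases he : i = j
    · subst he
      by_cases hp : i = pen m
      · subst hp
        simp [pen, Fin.ext_iff]
        omega
      · simp [hp]
    · rw [if_neg (fun e => he (Fin.ext e)), if_neg he]
      by_cases hp : i = pen m
      · rw [if_pos hp, if_neg (show j ≠ Fin.last m from fun e => by
          subst hp e
          simp [pen, Fin.val_last] at h
          omega)]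
        ring
      · rw [if_neg hp]
        ring
  · rw [genU_coe, Matrix.sub_apply, Matrix.add_apply, vecMulVec_apply, coreMat_apply, Matrix.one_apply,
      Pi.single_apply, Pi.single_apply, if_neg (show ¬ (i.val = j.val) by omega),
      if_neg (show ¬ (i.val = 0 ∧ j.val + 1 = m) by omega),
      if_neg (show i ≠ j from fun e => by rw [e] at h; omega)]
    by_cases hj : j.val < m
    · rw [if_pos (show i.val + 1 = j.val ∧ j.val < m from ⟨h, hj⟩),
        if_neg (show j ≠ Fin.last m from fun e => by rw [e] at hj; simp at hj)]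
      rcases hμ with h0 | h0
      · simp [h0]
      · rw [if_neg (show ¬ (i.val = 0 ∧ j.val + 2 = m) by omega)]
        simp
    · rw [if_neg (show ¬ (i.val + 1 = j.val ∧ j.val < m) by omega),
        if_neg (show ¬ (i.val = 0 ∧ j.val + 2 = m) by omega),
        if_pos (show i = pen m from Fin.ext (by simp [pen]; omega)),
        if_pos (show j = Fin.last m from Fin.ext (by simp; omega))]
      simp

/-- The cyclic renumbering sending `0` to the last index. -/
def toFirst (m : ℕ) : Fin (m + 1) ≃ Fin (m + 1) := (finRotate (m + 1)).symm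

lemma toFirst_val (m : ℕ) (k : Fin (m + 1)) :
    (toFirst m k).val = if k.val = 0 then m else k.val - 1 := by
  have h := congrArg Fin.val ((finRotate (m + 1)).apply_symm_apply k)
  rw [show (finRotate (m + 1)).symm = toFirst m from rfl, finRotate_succ_apply, Fin.val_add_one] at h
  by_cases hl : toFirst m k = Fin.last m
  · rw [if_pos hl] at h
    rw [if_pos h.symm, hl, Fin.val_last]
  · rw [if_neg hl] at h
    rw [if_neg (by omega)]
    omega

/-- `genV` is regular unipotent. -/
theorem genV_regular (hm : 3 ≤ m) (κ μ : F) {b : F} (hb : b ≠ 0) (hμ : μ = 0 ∨ 4 ≤ m) :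
    IsNilpotent ((genV hm κ μ b : Matrix (Fin (m + 1)) (Fin (m + 1)) F) - 1) ∧
      ((genV hm κ μ b : Matrix (Fin (m + 1)) (Fin (m + 1)) F) - 1) ^ (m + 1 - 1) ≠ 0 := by
  have hval : ∀ i j : Fin (m + 1),
      ((genV hm κ μ b : Matrix (Fin (m + 1)) (Fin (m + 1)) F).submatrix (toFirst m) (toFirst m) - 1) i j =
        coreMat m κ μ (toFirst m i) (toFirst m j) +
          (if i.val = 0 then b * coreMat m κ μ 0 (toFirst m j) else 0) -
          (if i.val = j.val then 1 else 0) := by
    intro i j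
    have hi := toFirst_val m i
    rw [Matrix.sub_apply, Matrix.submatrix_apply, genV_coe, Matrix.add_apply, vecMulVec_apply,
      Pi.smul_apply, smul_eq_mul, Matrix.one_apply, Pi.single_apply]
    simp only [Fin.ext_iff, Fin.val_last]
    by_cases h0 : i.val = 0
    · rw [if_pos h0] at hi ⊢
      rw [if_pos hi, one_mul]
    · rw [if_neg h0] at hi ⊢
      rw [if_neg (by omega), zero_mul]
  refine regular_of_reindex (toFirst m) (regular_of_unitriangular (by omega) (fun i j h => ?_) fun i j h => ?_)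
  · rw [hval]
    have hi := toFirst_val m i
    have hj := toFirst_val m j
    by_cases h0 : i.val = 0
    · have hj0 : j.val = 0 := by omega
      rw [if_pos h0] at hi
      rw [if_pos hj0] at hj
      rw [if_pos h0, if_pos (show i.val = j.val by omega), coreMat_apply, coreMat_apply]
      simp only [hi, hj, Fin.val_zero]
      rw [if_pos trivial, if_neg (by omega), if_neg (by omega), if_neg (by omega),
        if_neg (by omega), if_neg (by omega), if_neg (by omega), if_neg (by omega)]
      ring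
    · rw [if_neg h0] at hi
      rw [if_neg h0, coreMat_apply]
      simp only [hi, hj]
      by_cases hj0 : j.val = 0
      · simp only [if_pos hj0]
        rw [if_neg (by omega), if_neg (by omega), if_neg (by omega), if_neg (by omega), if_neg (by omega)]
        ring
      · simp only [if_neg hj0]
        rw [if_neg (show ¬ (i.val - 1 + 1 = j.val - 1 ∧ j.val - 1 < m) by omega),
          if_neg (show ¬ (i.val - 1 = 0 ∧ j.val - 1 + 1 = m) by omega),
          if_neg (show ¬ (i.val - 1 = 0 ∧ j.val - 1 + 2 = m) by omega)]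
        by_cases he : i.val = j.val
        · rw [if_pos he, if_pos (by omega)]
          ring
        · rw [if_neg he, if_neg (by omega)]
          ring
  · rw [hval]
    have hi := toFirst_val m i
    have hj := toFirst_val m j
    rw [if_neg (show ¬ j.val = 0 by omega)] at hj
    rw [if_neg (show ¬ i.val = j.val by omega)]
    by_cases h0 : i.val = 0
    · rw [if_pos h0] at hi
      rw [if_pos h0, coreMat_apply, coreMat_apply]
      simp only [hi, hj, Fin.val_zero, true_and]
      rw [if_neg (show ¬ m = j.val - 1 by omega), if_neg (show ¬ (m + 1 = j.val - 1 ∧ j.val - 1 < m) by omega),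
        if_neg (show ¬ (m = 0 ∧ j.val - 1 + 1 = m) by omega),
        if_neg (show ¬ (m = 0 ∧ j.val - 1 + 2 = m) by omega),
        if_pos (show 0 = j.val - 1 by omega), if_neg (show ¬ (0 + 1 = j.val - 1 ∧ j.val - 1 < m) by omega),
        if_neg (show ¬ (j.val - 1 + 1 = m) by omega),
        if_neg (show ¬ (j.val - 1 + 2 = m) by omega)]
      simpa using hb
    · rw [if_neg h0] at hi
      rw [if_neg h0, coreMat_apply]
      simp only [hi, hj]
      rw [if_neg (show ¬ i.val - 1 = j.val - 1 by omega),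
        if_pos (show i.val - 1 + 1 = j.val - 1 ∧ j.val - 1 < m by omega),
        if_neg (show ¬ (i.val - 1 = 0 ∧ j.val - 1 + 1 = m) by omega)]
      rcases hμ with h2 | h2
      · simp [h2]
      · rw [if_neg (show ¬ (i.val - 1 = 0 ∧ j.val - 1 + 2 = m) by omega)]
        simp

/-- The vectors spanning the block. -/
def blockP (m : ℕ) (κ μ : F) : Matrix (Fin (m + 1)) (Fin 3) F :=
  Matrix.of fun i k =>
    ![(Pi.single (Fin.last m) (1 : F) : Fin (m + 1) → F) i, (Pi.single (pen m) (1 : F) : Fin (m + 1) → F) i,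
      preVec m κ μ i] k

/-- The dual functionals. -/
noncomputable def blockD (m : ℕ) (κ μ : F) : Matrix (Fin 3) (Fin (m + 1)) F :=
  Matrix.of ![Pi.single (Fin.last m) 1, κ⁻¹ • coreMat m κ μ 0, Pi.single 0 (sVal m κ μ)⁻¹]

section generation

variable (hm : 3 ≤ m) (κ μ : F)
include hm

omit hm in
lemma blockD_mul_blockP_apply (a c : Fin 3) :
    (blockD m κ μ * blockP m κ μ) a c = blockD m κ μ a ⬝ᵥ fun i => blockP m κ μ i c := rfl

lemma block_dual (hκ : κ ≠ 0) (hs : sVal m κ μ ≠ 0) : blockD m κ μ * blockP m κ μ = 1 := by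
  have hne : pen m ≠ Fin.last m := by simp [pen, Fin.ext_iff]; omega
  have h0l : (0 : Fin (m + 1)) ≠ Fin.last m := by simp [Fin.ext_iff]; omega
  have h0p : (0 : Fin (m + 1)) ≠ pen m := by simp [pen, Fin.ext_iff]; omega
  have hgl : coreMat m κ μ 0 ⬝ᵥ Pi.single (Fin.last m) (1 : F) = 0 := by
    change (coreMat m κ μ *ᵥ Pi.single (Fin.last m) 1) 0 = 0
    rw [coreMat_mulVec_last hm, Pi.single_eq_of_ne h0l]
  have hgp : coreMat m κ μ 0 ⬝ᵥ Pi.single (pen m) (1 : F) = κ := by
    rw [dotProduct_single, mul_one, coreMat_zero_pen hm]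
  have hgv : coreMat m κ μ 0 ⬝ᵥ preVec m κ μ = 0 := by
    change (coreMat m κ μ *ᵥ preVec m κ μ) 0 = 0
    rw [coreMat_mulVec_preVec hm, Pi.single_eq_of_ne h0p]
  have hpl : preVec m κ μ (Fin.last m) = 0 := by
    rw [preVec, if_neg (by simp; omega), if_neg (by simp)]
  have hp0 : preVec m κ μ 0 = sVal m κ μ := by simp [preVec]
  have hdl : ∀ (i j : Fin (m + 1)) (c : F), i ≠ j →
      (Pi.single i c : Fin (m + 1) → F) ⬝ᵥ Pi.single j (1 : F) = 0 := fun i j c h => by
    rw [dotProduct_single, Pi.single_eq_of_ne h.symm, zero_mul]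
  have hD0 : blockD m κ μ 0 = Pi.single (Fin.last m) 1 := rfl
  have hD1 : blockD m κ μ 1 = κ⁻¹ • coreMat m κ μ 0 := rfl
  have hD2 : blockD m κ μ 2 = Pi.single 0 (sVal m κ μ)⁻¹ := rfl
  have hP0 : (fun i => blockP m κ μ i 0) = Pi.single (Fin.last m) 1 := rfl
  have hP1 : (fun i => blockP m κ μ i 1) = Pi.single (pen m) 1 := rfl
  have hP2 : (fun i => blockP m κ μ i 2) = preVec m κ μ := rfl
  ext a c
  rw [blockD_mul_blockP_apply]
  match a, c with
  | 0, 0 => rw [hD0, hP0, single_one_dotProduct, Pi.single_eq_same]; simp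
  | 0, 1 => rw [hD0, hP1, hdl _ _ _ hne.symm]; simp
  | 0, 2 => rw [hD0, hP2, single_one_dotProduct, hpl]; simp
  | 1, 0 => rw [hD1, hP0, smul_dotProduct, hgl]; simp
  | 1, 1 => rw [hD1, hP1, smul_dotProduct, hgp]; simp [hκ]
  | 1, 2 => rw [hD1, hP2, smul_dotProduct, hgv]; simp
  | 2, 0 => rw [hD2, hP0, hdl _ _ _ h0l]; simp
  | 2, 1 => rw [hD2, hP1, hdl _ _ _ h0p]; simp
  | 2, 2 => rw [hD2, hP2, single_dotProduct, hp0, inv_mul_cancel₀ hs]; simp

lemma blockP_mulVec_zero : blockP m κ μ *ᵥ ![1, 0, 0] = Pi.single (Fin.last m) 1 := by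
  funext i
  simp [blockP, Matrix.mulVec, dotProduct, Fin.sum_univ_three]

omit hm in
lemma vecMul_blockD (y : F) :
    ![0, 0, y] ᵥ* blockD m κ μ = (y / sVal m κ μ) • Pi.single (0 : Fin (m + 1)) (1 : F) := by
  funext j
  simp [blockD, Matrix.vecMul, dotProduct, Fin.sum_univ_three, Pi.single_apply, div_eq_mul_inv]

lemma genU_mul_blockX (hκ : κ ≠ 0) (hs : sVal m κ μ ≠ 0) (b : F) :
    genU hm κ μ * blockHom _ _ (block_dual hm κ μ hκ hs) (blockX (b * κ)) = genV hm κ μ b := by
  apply Subtype.ext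
  rw [Matrix.SpecialLinearGroup.coe_mul, blockHom_coe, genV_coe, blockX_coe]
  have hA : (!![1, b * κ, 0; 0, 1, 0; -1, -(b * κ), 1] : Matrix (Fin 3) (Fin 3) F) - 1 =
      vecMulVec ![1, 0, -1] ![0, b * κ, 0] + vecMulVec ![0, 0, -1] ![1, 0, 0] := by
    ext i j
    fin_cases i <;> fin_cases j <;> simp [vecMulVec_apply]
  rw [hA, Matrix.mul_add (blockP m κ μ), Matrix.add_mul (blockP m κ μ * vecMulVec _ _), mul_vecMulVec_mul, mul_vecMulVec_mul]
  have hP1 : blockP m κ μ *ᵥ ![(1 : F), 0, -1] = Pi.single (Fin.last m) 1 - preVec m κ μ := by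
    funext i
    simp [blockP, Matrix.mulVec, dotProduct, Fin.sum_univ_three, sub_eq_add_neg]
  have hP2 : blockP m κ μ *ᵥ ![(0 : F), 0, -1] = -preVec m κ μ := by
    funext i
    simp [blockP, Matrix.mulVec, dotProduct, Fin.sum_univ_three]
  have hD1 : ![0, b * κ, 0] ᵥ* blockD m κ μ = b • coreMat m κ μ 0 := by
    funext j
    simp [blockD, Matrix.vecMul, dotProduct, Fin.sum_univ_three, mul_assoc, mul_inv_cancel_left₀ hκ]
  have hD2 : ![(1 : F), 0, 0] ᵥ* blockD m κ μ = Pi.single (Fin.last m) 1 := by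
    funext j
    simp [blockD, Matrix.vecMul, dotProduct, Fin.sum_univ_three]
  rw [hP1, hP2, hD1, hD2, Matrix.mul_add, Matrix.mul_one, Matrix.mul_add, Matrix.mul_vecMulVec,
    Matrix.mul_vecMulVec, genU_coe, add_mulVec, add_mulVec, mulVec_sub, mulVec_neg, mulVec_sub,
    mulVec_neg, coreMat_mulVec_last hm, coreMat_mulVec_preVec hm, vecMulVec_mulVec, vecMulVec_mulVec]
  have hl1 : (Pi.single (Fin.last m) (1 : F) : Fin (m + 1) → F) ⬝ᵥ preVec m κ μ = 0 := by
    rw [single_one_dotProduct, preVec, if_neg (by simp; omega), if_neg (by simp)]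
  simp only [hl1, single_one_dotProduct, Pi.single_eq_same, MulOpposite.op_zero, MulOpposite.op_one,
    zero_smul, one_smul, neg_zero, sub_zero, add_zero]
  rw [sub_add_cancel, neg_vecMulVec]
  abel

lemma blockW_mul_genU (hκ : κ ≠ 0) (hs : sVal m κ μ ≠ 0) (b : F) :
    blockHom _ _ (block_dual hm κ μ hκ hs) (blockW (b * sVal m κ μ)) * genU hm κ μ = genV hm κ μ b := by
  set D := blockHom _ _ (block_dual hm κ μ hκ hs) (blockW (b * sVal m κ μ)) with hD
  have e : D = tv (Pi.single (Fin.last m) 1) (Pi.single 0 b) *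
      (tv (Pi.single (pen m) 1) (Pi.single (Fin.last m) (1 : F)))⁻¹ := by
    rw [hD, tv_inv (last_dot_pen hm)]
    apply Subtype.ext
    rw [blockHom_coe, Matrix.SpecialLinearGroup.coe_mul, coe_tv (zero_dot_last hm b),
      coe_tv (by rw [neg_dotProduct, last_dot_pen hm, neg_zero]), blockW_coe]
    have hA : (!![1, 0, b * sVal m κ μ; -1, 1, 0; 0, 0, 1] : Matrix (Fin 3) (Fin 3) F) - 1 =
        vecMulVec ![1, 0, 0] ![0, 0, b * sVal m κ μ] + vecMulVec ![0, -1, 0] ![1, 0, 0] := by
      ext i j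
      fin_cases i <;> fin_cases j <;> simp [vecMulVec_apply]
    rw [hA, Matrix.mul_add, Matrix.add_mul, mul_vecMulVec_mul, mul_vecMulVec_mul, blockP_mulVec_zero hm,
      vecMul_blockD, mul_div_assoc, div_self hs, mul_one]
    have hP2 : blockP m κ μ *ᵥ ![(0 : F), -1, 0] = -Pi.single (pen m) 1 := by
      funext i
      simp [blockP, Matrix.mulVec, dotProduct, Fin.sum_univ_three]
    have hD2 : ![(1 : F), 0, 0] ᵥ* blockD m κ μ = Pi.single (Fin.last m) 1 := by
      funext j
      simp [blockD, Matrix.vecMul, dotProduct, Fin.sum_univ_three]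
    have hz : (Pi.single (0 : Fin (m + 1)) b : Fin (m + 1) → F) ⬝ᵥ Pi.single (pen m) 1 = 0 := by
      rw [dotProduct_single, mul_one, Pi.single_eq_of_ne]
      intro h
      have h' := congrArg Fin.val h
      simp [pen] at h'
      omega
    rw [hP2, hD2, ← Pi.single_smul, smul_eq_mul, mul_one, Matrix.add_mul, Matrix.mul_add, Matrix.mul_add,
      Matrix.one_mul, Matrix.one_mul, Matrix.mul_one, Matrix.vecMulVec_mul_vecMulVec, hz, zero_smul,
      Matrix.vecMulVec_zero, neg_vecMulVec, vecMulVec_neg]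
    abel
  rw [e, genU, genV, mul_assoc, inv_mul_cancel_left]

omit hm in
lemma coreSubOne_lo (hm : 3 ≤ m) (i j : Fin (m + 1)) (h : j.val ≤ i.val) :
    (coreMat m κ μ - 1) i j = 0 := by
  rw [Matrix.sub_apply, coreMat_apply, Matrix.one_apply,
    if_neg (show ¬ (i.val + 1 = j.val ∧ j.val < m) by omega),
    if_neg (show ¬ (i.val = 0 ∧ j.val + 1 = m) by omega),
    if_neg (show ¬ (i.val = 0 ∧ j.val + 2 = m) by omega)]
  by_cases he : i = j
  · simp [he]
  · rw [if_neg (fun e => he (Fin.ext e)), if_neg he]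
    ring

omit hm in
lemma coreSubOne_up (hm : 3 ≤ m) (hμ : μ = 0 ∨ 4 ≤ m) (i j : Fin (m + 1)) (h : i.val + 1 = j.val)
    (hj : j.val < m) : (coreMat m κ μ - 1) i j ≠ 0 := by
  rw [Matrix.sub_apply, coreMat_apply, Matrix.one_apply, if_neg (show ¬ i.val = j.val by omega),
    if_pos ⟨h, hj⟩, if_neg (show ¬ (i.val = 0 ∧ j.val + 1 = m) by omega),
    if_neg (show i ≠ j from fun e => by rw [e] at h; omega)]
  rcases hμ with h2 | h2
  · simp [h2]
  · rw [if_neg (show ¬ (i.val = 0 ∧ j.val + 2 = m) by omega)]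
    simp

/-- `f vⁱ = f Jⁱ`, and these functionals kill `e`. -/
lemma vecMul_genV_pow (b : F) (i : ℕ) :
    Pi.single (0 : Fin (m + 1)) (1 : F) ᵥ* ((genV hm κ μ b : Matrix (Fin (m + 1)) (Fin (m + 1)) F) ^ i) =
      Pi.single (0 : Fin (m + 1)) 1 ᵥ* (coreMat m κ μ ^ i) ∧
    (Pi.single (0 : Fin (m + 1)) (1 : F) ᵥ* (coreMat m κ μ ^ i)) ⬝ᵥ Pi.single (Fin.last m) 1 = 0 := by
  have h2 : ∀ i : ℕ, (Pi.single (0 : Fin (m + 1)) (1 : F) ᵥ* (coreMat m κ μ ^ i)) ⬝ᵥ
      Pi.single (Fin.last m) 1 = 0 := by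
    intro i
    rw [← dotProduct_mulVec]
    have : ∀ i : ℕ, coreMat m κ μ ^ i *ᵥ Pi.single (Fin.last m) 1 = Pi.single (Fin.last m) 1 := by
      intro i
      induction i with
      | zero => rw [pow_zero, one_mulVec]
      | succ i ih => rw [pow_succ, ← mulVec_mulVec, coreMat_mulVec_last hm, ih]
    rw [this, single_one_dotProduct, Pi.single_eq_of_ne (by simp [Fin.ext_iff]; omega)]
  refine ⟨?_, h2 i⟩
  induction i with
  | zero => simp
  | succ i ih =>
    rw [pow_succ, ← vecMul_vecMul, ih, genV_coe, vecMul_add, vecMul_vecMulVec, h2 i, zero_smul,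
      add_zero, pow_succ, ← vecMul_vecMul]

/-- The generation theorem. -/
theorem closure_eq_top [Finite F] (hμ : μ = 0 ∨ 4 ≤ m) (hκ : κ ≠ 0) (hs : sVal m κ μ ≠ 0) (b : F)
    {y : F} (hy : y ≠ 0)
    (hblock : ∀ H : Subgroup (Matrix.SpecialLinearGroup (Fin 3) F), blockW (b * sVal m κ μ) ∈ H →
      blockX (b * κ) ∈ H → TR H ![1, 0, 0] ![0, 0, y])
    (hgen : ∀ K : Subring F, y / sVal m κ μ * κ ∈ K →
      y / sVal m κ μ * (coreMat m κ μ ^ 2) 0 (pen m) ∈ K → K = ⊤) :
    Subgroup.closure ({genU hm κ μ, genV hm κ μ b} :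
      Set (Matrix.SpecialLinearGroup (Fin (m + 1)) F)) = ⊤ := by
  set H := Subgroup.closure ({genU hm κ μ, genV hm κ μ b} :
    Set (Matrix.SpecialLinearGroup (Fin (m + 1)) F)) with hH
  have hu : genU hm κ μ ∈ H := Subgroup.subset_closure (by simp)
  have hv : genV hm κ μ b ∈ H := Subgroup.subset_closure (by simp)
  set Φ := blockHom _ _ (block_dual hm κ μ hκ hs)
  have h1 : blockX (b * κ) ∈ H.comap Φ := by
    rw [Subgroup.mem_comap, show Φ (blockX (b * κ)) = (genU hm κ μ)⁻¹ * genV hm κ μ b from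
      eq_inv_mul_of_mul_eq (genU_mul_blockX hm κ μ hκ hs b)]
    exact H.mul_mem (H.inv_mem hu) hv
  have h2 : blockW (b * sVal m κ μ) ∈ H.comap Φ := by
    rw [Subgroup.mem_comap, show Φ (blockW (b * sVal m κ μ)) = genV hm κ μ b * (genU hm κ μ)⁻¹ from
      eq_mul_inv_of_mul_eq (blockW_mul_genU hm κ μ hκ hs b)]
    exact H.mul_mem hv (H.inv_mem hu)
  have hT := TR.of_block _ _ (block_dual hm κ μ hκ hs) (hblock _ h2 h1)
  rw [blockP_mulVec_zero hm, vecMul_blockD] at hT
  set e : Fin (m + 1) → F := Pi.single (Fin.last m) 1 with he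
  set f : Fin (m + 1) → F := Pi.single 0 1 with hf
  have hpl : pen m ≠ Fin.last m := by simp [pen, Fin.ext_iff]; omega
  have hue : (genU hm κ μ : Matrix (Fin (m + 1)) (Fin (m + 1)) F) *ᵥ e = e + Pi.single (pen m) 1 := by
    rw [genU_coe, add_mulVec, coreMat_mulVec_last hm, vecMulVec_mulVec]
    simp [he]
  have hci : ∀ i : ℕ, (f ᵥ* ((genV hm κ μ b : Matrix (Fin (m + 1)) (Fin (m + 1)) F) ^ i)) ⬝ᵥ
      ((genU hm κ μ : Matrix (Fin (m + 1)) (Fin (m + 1)) F) *ᵥ e) = (coreMat m κ μ ^ i) 0 (pen m) := by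
    intro i
    rw [(vecMul_genV_pow hm κ μ b i).1, hue, dotProduct_add, (vecMul_genV_pow hm κ μ b i).2, zero_add,
      dotProduct_single, mul_one, single_one_vecMul]
    rfl
  refine eq_top_of_centre hu hv (e := e) (f := f) ?_ ?_ (x := y / sVal m κ μ) (div_ne_zero hy hs) hT ?_ ?_ ?_
  · rw [genV_coe, add_mulVec, coreMat_mulVec_last hm, vecMulVec_mulVec]
    have : (b • coreMat m κ μ 0) ⬝ᵥ e = 0 := by
      rw [smul_dotProduct, show coreMat m κ μ 0 ⬝ᵥ e = (coreMat m κ μ *ᵥ Pi.single (Fin.last m) 1) 0 from rfl,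
        coreMat_mulVec_last hm, Pi.single_eq_of_ne (by simp [Fin.ext_iff]; omega), smul_zero]
    rw [this]
    simp [he]
  · rw [genU_coe, genV_coe, vecMul_add, vecMul_add, vecMul_vecMulVec, vecMul_vecMulVec]
    simp [hf, pen, Fin.ext_iff, Pi.single_apply, show ¬ m = 0 by omega, show ¬ m - 1 = 0 by omega,
      show ¬ 0 = m by omega, show ¬ 0 = m - 1 by omega]
  · intro K hK
    refine hgen K ?_ ?_
    · have := hK 1
      rwa [hci, pow_one, coreMat_zero_pen hm] at this
    · have := hK 2
      rwa [hci] at this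
  · intro φ hφ
    set S := Submodule.span F (Set.range fun i : ℕ =>
      f ᵥ* ((genV hm κ μ b : Matrix (Fin (m + 1)) (Fin (m + 1)) F) ^ i)) with hS
    have hN : ∀ k : ℕ, f ᵥ* ((coreMat m κ μ - 1) ^ k) ∈ S := by
      intro k
      have hstep : ∀ ψ ∈ S, ψ ᵥ* (coreMat m κ μ - 1) ∈ S := by
        intro ψ hψ
        induction hψ using Submodule.span_induction with
        | mem z hz =>
          obtain ⟨i, rfl⟩ := hz
          show (f ᵥ* _) ᵥ* _ ∈ S
          rw [vecMul_sub, vecMul_one, hf, (vecMul_genV_pow hm κ μ b i).1]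
          refine S.sub_mem ?_ ?_
          · rw [vecMul_vecMul, ← pow_succ, ← (vecMul_genV_pow hm κ μ b (i + 1)).1]
            exact Submodule.subset_span ⟨_, rfl⟩
          · rw [← (vecMul_genV_pow hm κ μ b i).1]
            exact Submodule.subset_span ⟨_, rfl⟩
        | zero => rw [zero_vecMul]; exact S.zero_mem
        | add a c _ _ ha hc => rw [add_vecMul]; exact S.add_mem ha hc
        | smul r a _ ha => rw [smul_vecMul]; exact S.smul_mem _ ha
      induction k with
      | zero => exact Submodule.subset_span ⟨0, by simp⟩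
      | succ k ih => rw [pow_succ, ← vecMul_vecMul]; exact hstep _ ih
    have hbasis : ∀ d : ℕ, ∀ i : Fin (m + 1), i.val < m → m - i.val ≤ d → Pi.single i (1 : F) ∈ S := by
      intro d
      induction d with
      | zero => intro i hi hd; omega
      | succ d ih =>
        intro i hi hd
        set z := f ᵥ* ((coreMat m κ μ - 1) ^ i.val) with hz
        have hzj : ∀ j, z j = ((coreMat m κ μ - 1) ^ i.val) 0 j := fun j => by
          rw [hz, hf, single_one_vecMul]; rfl
        have hzi : z i ≠ 0 := by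
          rw [hzj]
          exact pow_apply_ne_zero (coreSubOne_lo κ μ hm) (coreSubOne_up κ μ hm hμ) _ _ _ (by simp) hi
        have hsum : z = ∑ j, z j • (Pi.single j (1 : F) : Fin (m + 1) → F) := (pi_eq_sum_univ' z)
        have hlast : z (Fin.last m) = 0 := by
          rw [hzj]
          rcases Nat.eq_zero_or_pos i.val with h0 | h0
          · rw [h0, pow_zero, Matrix.one_apply_ne (by simp [Fin.ext_iff]; omega)]
          · obtain ⟨r, hr⟩ : ∃ r, i.val = r + 1 := ⟨i.val - 1, by omega⟩
            rw [hr, pow_succ, Matrix.mul_apply]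
            refine Finset.sum_eq_zero fun l _ => ?_
            have : (coreMat m κ μ - 1) l (Fin.last m) = 0 := by
              have := congrFun (coreMat_mulVec_last hm κ μ) l
              rw [mulVec_single_one, Matrix.col_apply] at this
              rw [Matrix.sub_apply, this, Matrix.one_apply, Pi.single_apply, sub_self]
            rw [this, mul_zero]
        rw [Fintype.sum_eq_add_sum_compl i] at hsum
        have hrest : (∑ j ∈ ({i} : Finset (Fin (m + 1)))ᶜ, z j • (Pi.single j (1 : F) : Fin (m + 1) → F)) ∈ S := by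
          refine S.sum_mem fun j hj => ?_
          have hji : j.val ≠ i.val := fun e => by simp [Fin.ext e] at hj
          by_cases hlt : j.val < i.val
          · rw [hzj, pow_apply_eq_zero (coreSubOne_lo κ μ hm) i.val 0 j (by simpa using hlt), zero_smul]
            exact S.zero_mem
          · by_cases hjm : j.val < m
            · exact S.smul_mem _ (ih j hjm (by omega))
            · rw [show j = Fin.last m from Fin.ext (by simp; omega), hlast, zero_smul]
              exact S.zero_mem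
        have := S.sub_mem (hN i.val) hrest
        rw [← hz, ← eq_sub_of_add_eq hsum.symm] at this
        exact (S.smul_mem_iff hzi).1 this
    have hφl : φ (Fin.last m) = 0 := by simpa [he] using hφ
    rw [pi_eq_sum_univ' φ]
    refine S.sum_mem fun j _ => ?_
    by_cases hj : j.val < m
    · exact S.smul_mem _ (hbasis m j hj (by omega))
    · rw [show j = Fin.last m from Fin.ext (by simp; omega), hφl, zero_smul]
      exact S.zero_mem
  · intro C heC huC hvC
    have hE : Pi.single (pen m) (1 : F) ∈ C := by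
      have := C.sub_mem (huC e heC) heC
      rwa [hue, add_sub_cancel_left] at this
    have hJ : ∀ x ∈ C, (coreMat m κ μ - 1) *ᵥ x ∈ C := by
      intro x hx
      have h1 := hvC x hx
      rw [genV_coe, add_mulVec, vecMulVec_mulVec] at h1
      have h2 : coreMat m κ μ *ᵥ x ∈ C := by
        have h3 := C.sub_mem h1 (C.smul_mem ((b • coreMat m κ μ 0) ⬝ᵥ x) heC)
        rwa [he, op_smul_eq_smul, add_sub_cancel_right] at h3
      rw [sub_mulVec, one_mulVec]
      exact C.sub_mem h2 hx
    have hN : ∀ k : ℕ, ((coreMat m κ μ - 1) ^ k) *ᵥ Pi.single (pen m) 1 ∈ C := by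
      intro k
      induction k with
      | zero => rwa [pow_zero, one_mulVec]
      | succ k ih => rw [pow_succ', ← mulVec_mulVec]; exact hJ _ ih
    have hbasis : ∀ d : ℕ, ∀ i : Fin (m + 1), i.val < m → i.val < d → Pi.single i (1 : F) ∈ C := by
      intro d
      induction d with
      | zero => intro i hi hd; omega
      | succ d ih =>
        intro i hi hd
        set k := m - 1 - i.val with hk
        set z := ((coreMat m κ μ - 1) ^ k) *ᵥ Pi.single (pen m) (1 : F) with hz
        have hzj : ∀ j, z j = ((coreMat m κ μ - 1) ^ k) j (pen m) := fun j => by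
          rw [hz, mulVec_single_one]; rfl
        have hzi : z i ≠ 0 := by
          rw [hzj]
          exact pow_apply_ne_zero (coreSubOne_lo κ μ hm) (coreSubOne_up κ μ hm hμ) _ _ _
            (by simp [pen]; omega) (by simp [pen]; omega)
        have hsum : z = ∑ j, z j • (Pi.single j (1 : F) : Fin (m + 1) → F) := (pi_eq_sum_univ' z)
        rw [Fintype.sum_eq_add_sum_compl i] at hsum
        have hrest : (∑ j ∈ ({i} : Finset (Fin (m + 1)))ᶜ, z j • (Pi.single j (1 : F) : Fin (m + 1) → F)) ∈ C := by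
          refine C.sum_mem fun j hj => ?_
          have hji : j.val ≠ i.val := fun e => by simp [Fin.ext e] at hj
          by_cases hlt : j.val < i.val
          · exact C.smul_mem _ (ih j (by omega) (by omega))
          · rw [hzj, pow_apply_eq_zero (coreSubOne_lo κ μ hm) k j (pen m) (by simp [pen]; omega), zero_smul]
            exact C.zero_mem
        have h5 := C.sub_mem (hN k) hrest
        rw [← hz, ← eq_sub_of_add_eq hsum.symm] at h5
        exact (C.smul_mem_iff hzi).1 h5
    rw [Submodule.eq_top_iff']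
    intro x
    rw [pi_eq_sum_univ' x]
    refine C.sum_mem fun j _ => C.smul_mem _ ?_
    by_cases hj : j.val < m
    · exact hbasis m j hj hj
    · rw [show j = Fin.last m from Fin.ext (by simp; omega)]
      exact heC

end generation

end CfsgLib.SLRegGen
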